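/-
PSU(3,5) (over any field of order 25) is isomorphic to the explicit permutation group K50 of degree 50.
-/
import Mathlib
import Cfsg.Prelude.Def_Classical
set_option linter.all false

-- part: SporStruct/U35Field
section
set_option autoImplicit false

namespace Cfsg.Agent.SporStruct.U35Field

/-- addition on codes -/
def addN (x y : ℕ) : ℕ := (x % 5 + y % 5) % 5 + 5 * ((x / 5 + y / 5) % 5)
/-- multiplication on codes -/
def mulN (x y : ℕ) : ℕ :=
  ((x % 5) * (y % 5) + 2 * ((x / 5) * (y / 5))) % 5 + 5 * (((x % 5) * (y / 5) + (x / 5) * (y % 5)) % 5)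
/-- conjugation (fifth power) on codes -/
def conjN (x : ℕ) : ℕ := x % 5 + 5 * ((4 * (x / 5)) % 5)
/-- inverse on codes -/
def invN (x : ℕ) : ℕ :=
  mulN (conjN x) (((mulN x (conjN x)) * (mulN x (conjN x)) * (mulN x (conjN x))) % 5)

theorem addN_lt (x y : ℕ) : addN x y < 25 := by
  unfold addN; omega

theorem mulN_lt (x y : ℕ) : mulN x y < 25 := by
  unfold mulN; omega

theorem invN_lt (x : ℕ) : invN x < 25 := mulN_lt _ _

section
variable {F : Type*} [Field F]

/-- the element of the field with a given code -/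
def e (θ : F) (n : ℕ) : F := ((n % 5 : ℕ) : F) + ((n / 5 : ℕ) : F) * θ

theorem cast_mod5 (h5 : (5 : F) = 0) (n : ℕ) : ((n % 5 : ℕ) : F) = (n : F) := by
  conv_rhs => rw [← Nat.mod_add_div n 5]
  push_cast
  rw [h5]; ring

theorem e_of_lt5 (θ : F) {n : ℕ} (hn : n < 5) : e θ n = (n : F) := by
  unfold e
  rw [Nat.mod_eq_of_lt hn, Nat.div_eq_of_lt hn]; simp

theorem e_zero (θ : F) : e θ 0 = 0 := by rw [e_of_lt5 θ (by norm_num)]; simp
theorem e_one (θ : F) : e θ 1 = 1 := by rw [e_of_lt5 θ (by norm_num)]; simp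

theorem e_pair (h5 : (5 : F) = 0) (θ : F) (a b : ℕ) (ha : a < 5) :
    e θ (a + 5 * b) = (a : F) + (b : F) * θ := by
  unfold e
  rw [show (a + 5 * b) % 5 = a by omega, show (a + 5 * b) / 5 = b by omega]

theorem e_add (h5 : (5 : F) = 0) (θ : F) (x y : ℕ) : e θ (addN x y) = e θ x + e θ y := by
  unfold addN
  rw [e_pair h5 θ _ _ (Nat.mod_lt _ (by norm_num)), cast_mod5 h5, cast_mod5 h5]
  unfold e
  push_cast
  ring

theorem e_mul (h5 : (5 : F) = 0) (θ : F) (hθ : θ ^ 2 = 2) (x y : ℕ) :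
    e θ (mulN x y) = e θ x * e θ y := by
  unfold mulN
  rw [e_pair h5 θ _ _ (Nat.mod_lt _ (by norm_num)), cast_mod5 h5, cast_mod5 h5]
  unfold e
  push_cast
  linear_combination (-(((x / 5 : ℕ) : F) * ((y / 5 : ℕ) : F))) * hθ

theorem nat_pow_five (h5 : (5 : F) = 0) (n : ℕ) : ((n : F)) ^ 5 = n := by
  rw [← cast_mod5 h5 n]
  have h : n % 5 < 5 := Nat.mod_lt _ (by norm_num)
  interval_cases (n % 5)
  · simp
  · simp
  · push_cast; linear_combination (6 : F) * h5
  · push_cast; linear_combination (48 : F) * h5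
  · push_cast; linear_combination (204 : F) * h5

theorem add_pow_five (h5 : (5 : F) = 0) (x y : F) : (x + y) ^ 5 = x ^ 5 + y ^ 5 := by
  linear_combination (x ^ 4 * y + 2 * x ^ 3 * y ^ 2 + 2 * x ^ 2 * y ^ 3 + x * y ^ 4) * h5

theorem e_conj (h5 : (5 : F) = 0) (θ : F) (hθ : θ ^ 2 = 2) (x : ℕ) :
    e θ (conjN x) = (e θ x) ^ 5 := by
  unfold conjN
  rw [e_pair h5 θ _ _ (Nat.mod_lt _ (by norm_num)), cast_mod5 h5, cast_mod5 h5]
  unfold e
  rw [add_pow_five h5, mul_pow, cast_mod5 h5, nat_pow_five h5, nat_pow_five h5]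
  have h : θ ^ 5 = 4 * θ := by
    linear_combination (θ ^ 3 + 2 * θ) * hθ
  rw [h]
  push_cast
  ring

theorem exists_theta [Fintype F] (hF : Fintype.card F = 25) :
    (5 : F) = 0 ∧ ∃ θ : F, θ ^ 2 = 2 := by
  have h25 : ((25 : ℕ) : F) = 0 := by rw [← hF]; exact FiniteField.cast_card_eq_zero F
  have h5 : (5 : F) = 0 := by
    have h : (5 : F) * 5 = 0 := by push_cast at h25; linear_combination h25
    simpa using h
  refine ⟨h5, ?_⟩
  have hodd : ringChar F ≠ 2 := by
    intro h
    have h2 : ((2 : ℕ) : F) = 0 := by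
      rw [← h]; exact ringChar.Nat.cast_ringChar
    push_cast at h2
    have : (1 : F) = 0 := by linear_combination h5 - 2 * h2
    exact one_ne_zero this
  have h2 : (2 : F) ≠ 0 := by
    intro h2
    have : (1 : F) = 0 := by linear_combination h5 - 2 * h2
    exact one_ne_zero this
  have hs : IsSquare (2 : F) := by
    rw [FiniteField.isSquare_iff hodd h2, hF]
    norm_num
    linear_combination (819 : F) * h5
  obtain ⟨r, hr⟩ := hs
  exact ⟨r, by rw [hr]; ring⟩

theorem cast_inj5 (h5 : (5 : F) = 0) {a b : ℕ} (ha : a < 5) (hb : b < 5)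
    (h : (a : F) = b) : a = b := by
  have key : ∀ k : ℕ, k < 5 → (k : F) = 0 → k = 0 := by
    intro k hk h0
    by_contra hne
    have h1 : (1 : F) = 0 := by
      interval_cases k
      · exact absurd rfl hne
      · push_cast at h0; exact h0
      · push_cast at h0; linear_combination h5 - 2 * h0
      · push_cast at h0; linear_combination 2 * h0 - h5
      · push_cast at h0; linear_combination h5 - h0
    exact one_ne_zero h1
  rcases le_total a b with hab | hab
  · have : ((b - a : ℕ) : F) = 0 := by rw [Nat.cast_sub hab, h]; ring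
    have := key _ (by omega) this
    omega
  · have : ((a - b : ℕ) : F) = 0 := by rw [Nat.cast_sub hab, h]; ring
    have := key _ (by omega) this
    omega

theorem no_nat_sqrt_two (h5 : (5 : F) = 0) (k : ℕ) : (k : F) ^ 2 ≠ 2 := by
  rw [← cast_mod5 h5 k]
  have h : k % 5 < 5 := Nat.mod_lt _ (by norm_num)
  intro h0
  have h1 : (1 : F) = 0 := by
    interval_cases (k % 5)
    · push_cast at h0; linear_combination h5 + 2 * h0
    · push_cast at h0; linear_combination - h0
    · push_cast at h0; linear_combination 3 * h0 - h5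
    · push_cast at h0; linear_combination 3 * h0 - 4 * h5
    · push_cast at h0; linear_combination -h0 + 3 * h5
  exact one_ne_zero h1

theorem e_inj (h5 : (5 : F) = 0) (θ : F) (hθ : θ ^ 2 = 2) {x y : ℕ} (hx : x < 25) (hy : y < 25)
    (h : e θ x = e θ y) : x = y := by
  unfold e at h
  have hx5 : x / 5 < 5 := by omega
  have hy5 : y / 5 < 5 := by omega
  have hxm : x % 5 < 5 := by omega
  have hym : y % 5 < 5 := by omega
  by_cases hd : x / 5 = y / 5
  · rw [hd] at h
    have := cast_inj5 h5 hxm hym (add_right_cancel h)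
    omega
  · exfalso
    -- θ is in the prime field
    have hne : ((x / 5 : ℕ) : F) - ((y / 5 : ℕ) : F) ≠ 0 := by
      intro h0
      exact hd (cast_inj5 h5 hx5 hy5 (sub_eq_zero.mp h0))
    set A : ℕ := x / 5 + 4 * (y / 5) with hA
    set B : ℕ := y % 5 + 4 * (x % 5) with hB
    have hAF : ((A : ℕ) : F) = ((x / 5 : ℕ) : F) - ((y / 5 : ℕ) : F) := by
      rw [hA]; push_cast; linear_combination ((y / 5 : ℕ) : F) * h5
    have hBF : ((B : ℕ) : F) = ((y % 5 : ℕ) : F) - ((x % 5 : ℕ) : F) := by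
      rw [hB]; push_cast; linear_combination ((x % 5 : ℕ) : F) * h5
    have hAB : (A : F) * θ = B := by
      rw [hAF, hBF]; linear_combination h
    have hA4 : (A : F) ^ 4 = 1 := by
      have h1 := nat_pow_five h5 A
      have h2 : (A : F) ≠ 0 := by rw [hAF]; exact hne
      have h3 : (A : F) * ((A : F) ^ 4 - 1) = 0 := by linear_combination h1
      rcases mul_eq_zero.mp h3 with h4 | h4
      · exact absurd h4 h2
      · linear_combination h4
    have hθB : θ = ((A ^ 3 * B : ℕ) : F) := by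
      push_cast
      linear_combination (A : F) ^ 3 * hAB - θ * hA4
    apply no_nat_sqrt_two h5 (A ^ 3 * B)
    rw [← hθB]; exact hθ

/-- The coding of the field of order 25. -/
noncomputable def E [Fintype F] (hF : Fintype.card F = 25) (h5 : (5 : F) = 0) (θ : F) (hθ : θ ^ 2 = 2) :
    Fin 25 ≃ F :=
  Equiv.ofBijective (fun n : Fin 25 => e θ (n : ℕ)) (by
    rw [Fintype.bijective_iff_injective_and_card]
    refine ⟨fun x y h => ?_, ?_⟩
    · exact Fin.ext (e_inj h5 θ hθ x.2 y.2 h)
    · rw [hF]; simp)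

theorem E_apply [Fintype F] (hF : Fintype.card F = 25) (h5 : (5 : F) = 0) (θ : F) (hθ : θ ^ 2 = 2)
    (n : Fin 25) : E hF h5 θ hθ n = e θ (n : ℕ) := rfl

theorem E_symm_e [Fintype F] (hF : Fintype.card F = 25) (h5 : (5 : F) = 0) (θ : F) (hθ : θ ^ 2 = 2)
    {n : ℕ} (hn : n < 25) : ((E hF h5 θ hθ).symm (e θ n) : ℕ) = n := by
  have : e θ n = E hF h5 θ hθ ⟨n, hn⟩ := rfl
  rw [this, Equiv.symm_apply_apply]

theorem exists_code [Fintype F] (hF : Fintype.card F = 25) (h5 : (5 : F) = 0) (θ : F) (hθ : θ ^ 2 = 2)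
    (x : F) : ∃ n : ℕ, n < 25 ∧ e θ n = x := by
  refine ⟨(E hF h5 θ hθ).symm x, ((E hF h5 θ hθ).symm x).2, ?_⟩
  have := (E hF h5 θ hθ).apply_symm_apply x
  exact this

theorem mulN_invN : ∀ x < 25, x ≠ 0 → mulN x (invN x) = 1 := by decide

theorem e_inv (h5 : (5 : F) = 0) (θ : F) (hθ : θ ^ 2 = 2) {x : ℕ} (hx : x < 25) (h0 : x ≠ 0) :
    e θ (invN x) = (e θ x)⁻¹ := by
  have h := mulN_invN x hx h0
  have h2 : e θ x * e θ (invN x) = 1 := by
    rw [← e_mul h5 θ hθ, h, e_one]
  exact eq_inv_of_mul_eq_one_right h2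

theorem e_ne_zero (h5 : (5 : F) = 0) (θ : F) (hθ : θ ^ 2 = 2) {x : ℕ} (hx : x < 25) (h0 : x ≠ 0) :
    e θ x ≠ 0 := by
  intro h
  apply h0
  apply e_inj h5 θ hθ hx (by norm_num)
  rw [h, e_zero]

end

end Cfsg.Agent.SporStruct.U35Field
end

-- part: SporStruct/U35Table
section
set_option autoImplicit false

namespace Cfsg.Agent.SporStruct.U35Table

open Cfsg.Agent.SporStruct.U35Field

/-- bounded universal quantifier, kernel friendly -/
def allLt (p : ℕ → Bool) (n : ℕ) : Bool := Nat.rec true (fun k ih => and (p k) ih) n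

theorem allLt_spec (p : ℕ → Bool) (n : ℕ) (h : allLt p n = true) : ∀ k < n, p k = true := by
  induction n with
  | zero => intro k hk; omega
  | succ n ih =>
    have h' : (and (p n) (allLt p n)) = true := h
    rw [Bool.and_eq_true] at h'
    intro k hk
    rcases Nat.lt_succ_iff_lt_or_eq.mp hk with h1 | h1
    · exact ih h'.2 k h1
    · rw [h1]; exact h'.1

/-- evaluate the natural number before passing it on -/
def force (n : ℕ) (f : ℕ → Bool) : Bool := Nat.rec (f 0) (fun k _ => f (k + 1)) n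

theorem force_eq (n : ℕ) (f : ℕ → Bool) : force n f = f n := by
  cases n <;> rfl

/-- the table: 651 masks of 50 bits -/
def T : ℕ := 0xc006100020f0000000000000520031408404061070044042000000000000010910115400081069108044080016022020315008100480839c40020102641094030020a202881041088c0104201006020c920108004600d481220640c00841120130028080000000000000a041310a002001c12708000400000000000001095080c8002044021800070c0000000000000000000000000300014020433800900011403c90810a2081808480440888600484821010604010890050006c406a001504104240284204812021410826040050050080062c405c008144404440600a0460080a20a14801009001110020ad0122801c101082800c4088812220014422820010510201012c88802b0082044840211206080604804410c20202502a030101011480885040282003902208050490021058080888405880400000000000000c06120021600000000000000000000000000280140022d004202a04c00288010c1198080042110502c1002002482010049500a51444800400000000000001044304700100801022088065010e9010220204142054180040000000000002006880141804000000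00000000000000000002810118440480c1080120468002170100c08090059008822406080801428840980088148202c80010400cc11022410c050080000000000000000000000000188009900910308020003231002850c02c00802011400820694110482a040104841046300080000000000000188188408808818088102a01102004050019902c02a0700200000000000000442048820144000000000000000000000000020123000c60084a0022200c9014100054c0202600600122288082490030228004a1444008808882822004608810008030209c288149002208001e05a080101404006c10140882042030a080228508203080011009a00011c023c102210802240304410820814086904040020e1440808228100801c4820050088002105f4000004d0920040e8400a104030830800a4102440a00431041480041410308018108080421d420400611180800e04038208020c10e80204054008010614408304803050800000000000001060030c8082020a10884110412014400911202104900ca0040021c000022c3108814550002000000000000000000000000020810280e800404850510a00080a44a0111004000000000000000000000000000655042100201141841c00020116302402102220048142180100e08830110007032028208060000007008c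c000000000000110980094400a04840884480200000000000003400660005020249a00054020d0010060c408480a80000d84088180822828081120820130108184070042020000000000000000000000000000e108000724031c2008448028001004110e4000000000000000000000000050281104060220880c8700080884880110a20e00000a018d0000e9064008088208062190020842222209004000000000000028802e02041016002880415000000000000004280481208820601841002640902002512201200120002a055100801910012c00000000000000000000000005100918044403000008840784000000000000081a09800501000000000000008220200032c401a217020010000000000000290002200c504042140001106d0040809010551031404844011808043100310000000000000002952208204013008808c10400c80aa80084050800817010400300310800a5840002012061c0228104008a912088211600202a08280026800000000000000000000000000402002a00074429008c2210800000000000002300140006508000000000000218009003092018008000491c4000000000000480811900442188002209032002314220500208101002840a9081101004409c00000000000028041207200804502412101800920166002080025c4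01101800204300480165420011c02240a80200001b88120400cc09004806120401601024234020300880800880087140000000000000000000000001180480011302088530040c10228000c062202000000000000000000000000048000802050d70010401e0110900804498401210430001a104600a008804e01018301082210c100103012420000000000000086013c00060070005101052000000000000008058411082040640a2006060000000000000000000000000004180874008400c12410009808032a1100228002880d9080022101051028104820620008a9000000000000006200200c848402140c51010040640680211021810011884220000000000000050811122041000000000000000000000000000a100720c0081900006408302050024200218c122490141002804501039000805020422009312210241408088481222808208140a0201a100904180309004888108001d011082880401a0880200440820d400000000000000000000000002414442210020a212200460821400c014090200000000000000000000000001040204804316480008270180c0080883044120058044288044108842884040460820600c80a20040089882000000000000006802c04810400910a60a004000000000000000c4228818004801001058005c00a30200205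9001e5007000200582c110081000000000000000000000000002080040c802c53000c01015100000000000002090084424808000000000000220104602214000462002023840000000000000608640884020441051a200402085101430021400000c04459040520002411c00000000000012102225401010818200a061022802884089000896080380100a001200406a40d02a009082080904807080120048000109a504084403000ac0000000000000000000000000a1002608442040040422801c40000000000000448a4402401000000000000000c0a00408344122832000580000000000000201401582400400c101101022ca000082090a540850812240100e0038a2008000000000000004284114108204046104200e00a200511022201060424b00200408023000455080f100015021014104c84008014aa00806201044240910110a040804038810160430804402000000000000000000000000002088400c00e4418601014410024022201032400000000000000000000000000522260c0002102806e10010024124880a040a10004289208012231040a008a00810851042100681180120400000000000001300d11001800844154280080000000000000112050580202020584412041000000000000000000000000000c804c0209080150284408802012a8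8800304010a15300010882100980c04122402400129200000000000001240048a011800e002a0025010610045404408310008a81110000000000000040c009920060000000000000000000000000009010c21081400510452880008a00006002263082903810400a5004000545024402000001e4c0614601c0002900000410891c0e00e050080824088480604809011102a8020908020150a101028480501810240004402089d00a6020111100b001a2011020b0001880c42003089880404226000088464400052014000a1e4011002e2040005a81804060003488450088008520320112000c11602a0008402100400485d0095002a101090088081485009200905088200056410a80201208408805410000000000000080a50220500800000000000000000000000000460644202082041840220980102510c04050048008041086970000058248111011404881080000000000000224144502008803240400a810088108220099182012450104000000000000010c00558802000000000000000000000000002402800444c082900300c060805401202c04021110c02848101048208c0881001a10990020080522518040080250a104c0040000000000000000000000000300440081510401888ca008100824026508004620002303082001820900809502a10a80406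000000000000001a000a0341080404011810065021ac00048820105920088404000000000000220220804b004000000000000000000000000006042620a01010502208844100505900060408c40200618820013242280220024404c9400028300280886011024014d20010c020019082440051261088004020a020100a2c013a080c80801900184805012808402014920420001108086c81160009c0205800011885040026818940080060060000892c602808241480812018c00241210818200294022010000508ac0640719000041c0060080d10011138008a0402091042450080e0040021542004906424081010112044a8010802a028102600000000000000302040c80890003841980408012052008c410108480881038001218000420cc08a12a0c00080000000000000000000000000901010454041010c506010102082512402401000000000000000000000000004a04204144081c00031121008a8020801a22082202205820404122110d00205022005003840440008a400c30000000000001003c000c1202a0810005188080000000000000640254080808490281012240488101100c80805460481400209809804090400000000000000000000000000803a0200a2408120c0088a040000000000000140020050114c00000000000051002038061018048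009046100000000000000009406020053410418a200500142218848002c400400308c0908801982021000000000000010102000901b1801040201813500220040901d0880062008384840800200aa32030418c8004042160041a04000b1c00448040c0100662804043000a2300808a0201622102048080623040830100088c4180a0400188906001c08a0000e020c0a24000708022261001302080c1800058602110880004d80230009888080810c980100c10500402332010100c1089c001014062010231000e0620012202100410502013601004100418d08081440040b400c14110001d0000000000001120018c081800037400242080029c084088804410442240480c40041340202440824a004500c02082341040b000000d910431000108245100940914008808212286003040002f208006102009c00024c10884081009904114005180030208c0831028200c041003d00203080021d20200214304092020012710400280808412009002d82000800910740820a200104d02800a102023400000000000009061802030801485802018022407000031808098889000a800000000000000000000000000011a842042083020800402b80000000000000021000c0c00a30000000000001a001002832202140822830200000000000000048104004068cc80011230220201a01850080a4400046608022180188c00600000000000000100600088134680000040c82d001a400804234808082100871410080200894c00000000000082051000d042002a4330010040000000000002102016060102001f800064010012a00004499880020000e19602850040680861010028148094021006c1008c000000884654802012804069a010022530012042a00042a0200000000000024100210c44040a083205040200000000000000c412100150080284081400930000000000000000000000000100500034018c10410440800f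

/-- the mask number `k` -/
def entry (k : ℕ) : ℕ := (T >>> (50 * k)) % 1125899906842624

/-- the mask of the point with coordinate codes `a b c` -/
def colN (a b c : ℕ) : ℕ :=
  bif Nat.beq a 0 then
    (bif Nat.beq b 0 then (bif Nat.beq c 0 then 0 else entry 650)
      else entry (625 + mulN c (invN b)))
  else entry (25 * mulN b (invN a) + mulN c (invN a))

/-- apply a packed permutation of 50 points -/
def papp (P j : ℕ) : ℕ := (P >>> (6 * j)) % 64

/-- check that two packed permutations are inverse to each other -/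
def chkPerm (P Q : ℕ) : Bool :=
  allLt (fun j => and (and (Nat.ble (papp P j + 1) 50) (Nat.ble (papp Q j + 1) 50))
    (and (Nat.beq (papp Q (papp P j)) j) (Nat.beq (papp P (papp Q j)) j))) 50

theorem chkPerm_spec {P Q : ℕ} (h : chkPerm P Q = true) (j : ℕ) (hj : j < 50) :
    papp P j < 50 ∧ papp Q j < 50 ∧ papp Q (papp P j) = j ∧ papp P (papp Q j) = j := by
  have h1 := allLt_spec _ _ h j hj
  simp only [Bool.and_eq_true, Nat.ble_eq] at h1
  obtain ⟨⟨h2, h3⟩, h4, h5⟩ := h1
  exact ⟨h2, h3, Nat.eq_of_beq_eq_true h4, Nat.eq_of_beq_eq_true h5⟩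

/-- the permutation of `Fin 50` given by packed data -/
def mkPerm (P Q : ℕ) (h : chkPerm P Q = true) : Equiv.Perm (Fin 50) where
  toFun j := ⟨papp P j, (chkPerm_spec h j j.2).1⟩
  invFun j := ⟨papp Q j, (chkPerm_spec h j j.2).2.1⟩
  left_inv j := Fin.ext (chkPerm_spec h j j.2).2.2.1
  right_inv j := Fin.ext (chkPerm_spec h j j.2).2.2.2

theorem mkPerm_apply (P Q : ℕ) (h : chkPerm P Q = true) (j : Fin 50) :
    ((mkPerm P Q h j : Fin 50) : ℕ) = papp P j := rfl

/-- a 3 × 3 matrix of codes -/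
structure Mat3 where
  (a b c d e f g h i : ℕ)

/-- row times vector -/
def rowN (x y z a b c : ℕ) : ℕ := addN (addN (mulN x a) (mulN y b)) (mulN z c)

/-- bit number `j` -/
def bt (M j : ℕ) : ℕ := (M >>> j) % 2

/-- compare the mask of the image with the mask -/
def chkMask (P M' M : ℕ) : Bool :=
  force M' fun M' => force M fun M =>
    allLt (fun j => Nat.beq (bt M' (papp P j)) (bt M j)) 50

/-- check one point -/
def chkPt (m : Mat3) (P a b c : ℕ) : Bool :=
  force (rowN m.a m.b m.c a b c) fun a' =>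
  force (rowN m.d m.e m.f a b c) fun b' =>
  force (rowN m.g m.h m.i a b c) fun c' =>
    chkMask P (colN a' b' c') (colN a b c)

/-- check all points -/
def chkGen (m : Mat3) (P : ℕ) : Bool :=
  and (allLt (fun b => allLt (fun c => chkPt m P 1 b c) 25) 25)
    (and (allLt (fun c => chkPt m P 0 1 c) 25) (chkPt m P 0 0 1))

/-- generator 0, packed permutation -/
def P0 : ℕ := 0x3121894432a9aa89e620540b1e039c75e11a6585013574f0b6301f5718abba586f91bb0258f
/-- its inverse -/
def Q0 : ℕ := 0x3121894432a9aa89e620540b1e039c75e11a6585013574f0b6301f5718abba586f91bb0258f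
/-- its matrix -/
def m0 : Mat3 := ⟨4, 0, 0, 0, 3, 8, 0, 23, 2⟩
theorem cP0 : chkPerm P0 Q0 = true := by decide +kernel
theorem cG0 : chkGen m0 P0 = true := by decide +kernel
/-- generator 1, packed permutation -/
def P1 : ℕ := 0xaef9295d884c49a2e0288b31b67a3096eaa68d655489365d40d7916ce7dc3c9047185103080
/-- its inverse -/
def Q1 : ℕ := 0x89ec1c863c5bb9f81a76f655ae62cf48a3684ecb585d652939124c42a9e52241851030811c0
/-- its matrix -/
def m1 : Mat3 := ⟨13, 3, 18, 9, 1, 12, 13, 4, 6⟩
theorem cP1 : chkPerm P1 Q1 = true := by decide +kernel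
theorem cG1 : chkGen m1 P1 = true := by decide +kernel
/-- generator 2, packed permutation -/
def P2 : ℕ := 0x393b8c35a52a22372b9cf6ec2d19a1799a49625770550922bdf58ac605ed4a81c2185103040
/-- its inverse -/
def Q2 : ℕ := 0x35646f2a29aa6c895f613a1278c41d5e78ec7192cf56bc09814931b6e84e6a91c5103086040
/-- its matrix -/
def m2 : Mat3 := ⟨1, 18, 21, 6, 17, 1, 17, 3, 18⟩
theorem cP2 : chkPerm P2 Q2 = true := by decide +kernel
theorem cG2 : chkGen m2 P2 = true := by decide +kernel
/-- generator 3, packed permutation -/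
def P3 : ℕ := 0x62d6637ea4523a040fc295a24e1554c57aec2266ca96f349724767a0cb8b69e0c7185102040
/-- its inverse -/
def Q3 : ℕ := 0x76550bc1a6ec90d398550ba2828b483d15c9bf17237de86aae79a94cc2964991851031c2040
/-- its matrix -/
def m3 : Mat3 := ⟨13, 3, 18, 24, 17, 1, 4, 18, 21⟩
theorem cP3 : chkPerm P3 Q3 = true := by decide +kernel
theorem cG3 : chkGen m3 P3 = true := by decide +kernel
/-- generator 4, packed permutation -/
def P4 : ℕ := 0x75c7e1ba281a8dbbf17b0209b4e9d69a455250f465a0b5ea4cd32b298650b291c41850c2040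
/-- its inverse -/
def Q4 : ℕ := 0x9a49ed8493922157dd59ca6cbabbe5c70a2a2cc4de6d945a5ca62040f50d8a31c51060c2040
/-- its matrix -/
def m4 : Mat3 := ⟨0, 0, 1, 1, 0, 0, 0, 1, 0⟩
theorem cP4 : chkPerm P4 Q4 = true := by decide +kernel
theorem cG4 : chkGen m4 P4 = true := by decide +kernel
/-- generator 5, packed permutation -/
def P5 : ℕ := 0x3d4b885c9962b4b45d8284da9eb8ce30d72a571a5e40a7ec8596166e69304af1471840c2040
/-- its inverse -/
def Q5 : ℕ := 0x60a22fa5281a5e484cacb7ea4654d699b36240fb4e6708c99d5c5e71da14b2e1851c40c2040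
/-- its matrix -/
def m5 : Mat3 := ⟨0, 4, 0, 0, 0, 4, 1, 0, 0⟩
theorem cP5 : chkPerm P5 Q5 = true := by decide +kernel
theorem cG5 : chkGen m5 P5 = true := by decide +kernel

end Cfsg.Agent.SporStruct.U35Table
end

-- part: SporStruct/U35SU
section
set_option autoImplicit false

namespace Cfsg.Agent.SporStruct.U35SU

open Cfsg Matrix
open Cfsg.Agent.SporStruct.U35Field Cfsg.Agent.SporStruct.U35Table

variable {F : Type} [Field F]

/-- the matrix of an element of SU(3,5) -/
def mat (g : SU 3 F 5) : Matrix (Fin 3) (Fin 3) F :=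
  ((g : Matrix.SpecialLinearGroup (Fin 3) F) : Matrix (Fin 3) (Fin 3) F)

theorem mat_mul (g h : SU 3 F 5) : mat (g * h) = mat g * mat h := rfl
theorem mat_one : mat (1 : SU 3 F 5) = 1 := rfl
theorem mat_det (g : SU 3 F 5) : (mat g).det = 1 := g.1.2
theorem mat_herm (g : SU 3 F 5) (u v : Fin 3 → F) :
    hermForm 3 F 5 (mat g *ᵥ u) (mat g *ᵥ v) = hermForm 3 F 5 u v := g.2 u v
theorem mat_inj {g h : SU 3 F 5} (H : mat g = mat h) : g = h :=
  Subtype.ext (Subtype.ext H)
theorem mat_inv_mulVec (g : SU 3 F 5) (u : Fin 3 → F) : mat g⁻¹ *ᵥ (mat g *ᵥ u) = u := by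
  rw [Matrix.mulVec_mulVec, ← mat_mul, inv_mul_cancel, mat_one, Matrix.one_mulVec]
theorem mat_mulVec_inv (g : SU 3 F 5) (u : Fin 3 → F) : mat g *ᵥ (mat g⁻¹ *ᵥ u) = u := by
  rw [Matrix.mulVec_mulVec, ← mat_mul, mul_inv_cancel, mat_one, Matrix.one_mulVec]
theorem mat_mul_mulVec (g h : SU 3 F 5) (u : Fin 3 → F) :
    mat (g * h) *ᵥ u = mat g *ᵥ (mat h *ᵥ u) := by
  rw [Matrix.mulVec_mulVec, ← mat_mul]

/-- standard basis vectors -/
def e1 : Fin 3 → F := ![1, 0, 0]
def e2 : Fin 3 → F := ![0, 1, 0]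
def e3 : Fin 3 → F := ![0, 0, 1]

theorem mulVec_e1 (M : Matrix (Fin 3) (Fin 3) F) : M *ᵥ e1 = ![M 0 0, M 1 0, M 2 0] := by
  funext i; fin_cases i <;> simp [e1, Matrix.mulVec, dotProduct, Fin.sum_univ_three]
theorem mulVec_e2 (M : Matrix (Fin 3) (Fin 3) F) : M *ᵥ e2 = ![M 0 1, M 1 1, M 2 1] := by
  funext i; fin_cases i <;> simp [e2, Matrix.mulVec, dotProduct, Fin.sum_univ_three]
theorem mulVec_e3 (M : Matrix (Fin 3) (Fin 3) F) : M *ᵥ e3 = ![M 0 2, M 1 2, M 2 2] := by
  funext i; fin_cases i <;> simp [e3, Matrix.mulVec, dotProduct, Fin.sum_univ_three]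

theorem herm_e1 (u : Fin 3 → F) : hermForm 3 F 5 e1 u = u 0 ^ 5 := by
  simp [hermForm, e1, Fin.sum_univ_three]
theorem herm_e2 (u : Fin 3 → F) : hermForm 3 F 5 e2 u = u 1 ^ 5 := by
  simp [hermForm, e2, Fin.sum_univ_three]

/-- an element of SU(3,5) fixing the first two basis vectors is the identity -/
theorem eq_one_of_fix (g : SU 3 F 5) (h1 : mat g *ᵥ e1 = e1) (h2 : mat g *ᵥ e2 = e2) : g = 1 := by
  have h3 := mat_herm g e1 e3
  have h4 := mat_herm g e2 e3
  rw [h1, herm_e1, herm_e1] at h3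
  rw [h2, herm_e2, herm_e2] at h4
  have a0 : (mat g *ᵥ e3) 0 = 0 := by
    have : (mat g *ᵥ e3) 0 ^ 5 = 0 := by rw [h3]; simp [e3]
    exact pow_eq_zero_iff (by norm_num) |>.mp this
  have a1 : (mat g *ᵥ e3) 1 = 0 := by
    have : (mat g *ᵥ e3) 1 ^ 5 = 0 := by rw [h4]; simp [e3]
    exact pow_eq_zero_iff (by norm_num) |>.mp this
  rw [mulVec_e3] at a0 a1
  rw [mulVec_e1] at h1
  rw [mulVec_e2] at h2
  have b0 : mat g 0 0 = 1 := by simpa [e1] using congrFun h1 0
  have b1 : mat g 1 0 = 0 := by simpa [e1] using congrFun h1 1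
  have b2 : mat g 2 0 = 0 := by simpa [e1] using congrFun h1 2
  have c0 : mat g 0 1 = 0 := by simpa [e2] using congrFun h2 0
  have c1 : mat g 1 1 = 1 := by simpa [e2] using congrFun h2 1
  have c2 : mat g 2 1 = 0 := by simpa [e2] using congrFun h2 2
  have d0 : mat g 0 2 = 0 := by simpa using a0
  have d1 : mat g 1 2 = 0 := by simpa using a1
  have d2 : mat g 2 2 = 1 := by
    have := mat_det g
    rw [Matrix.det_fin_three, b0, b1, b2, c0, c1, c2, d0, d1] at this
    simpa using this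
  apply mat_inj
  rw [mat_one]
  ext i j
  fin_cases i <;> fin_cases j <;> simp [b0, b1, b2, c0, c1, c2, d0, d1, d2]

/-- unit vectors -/
def X (F : Type) [Field F] : Type := {u : Fin 3 → F // hermForm 3 F 5 u u = 1}
/-- unit vectors orthogonal to the first basis vector -/
def Y (F : Type) [Field F] : Type := {u : Fin 3 → F // u 0 = 0 ∧ hermForm 3 F 5 u u = 1}

instance instFiniteX [Finite F] : Finite (X F) := Subtype.finite
instance instFiniteY [Finite F] : Finite (Y F) := Subtype.finite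

theorem herm_e1_e1 : hermForm 3 F 5 e1 e1 = 1 := by rw [herm_e1]; simp [e1]
theorem herm_e2_e2 : hermForm 3 F 5 e2 e2 = 1 := by rw [herm_e2]; simp [e2]
theorem herm_e1_e2 : hermForm 3 F 5 e1 e2 = 0 := by rw [herm_e1]; simp [e2]

theorem card_SU_le [Finite F] : Nat.card (SU 3 F 5) ≤ Nat.card (X F) * Nat.card (Y F) := by
  classical
  -- transport elements
  have ht : ∀ x : X F, ∃ t : SU 3 F 5, (∃ s : SU 3 F 5, mat s *ᵥ e1 = x.1) → mat t *ᵥ e1 = x.1 := by
    intro x
    by_cases h : ∃ s : SU 3 F 5, mat s *ᵥ e1 = x.1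
    · obtain ⟨s, hs⟩ := h
      exact ⟨s, fun _ => hs⟩
    · exact ⟨1, fun h' => absurd h' h⟩
  choose t ht using ht
  let x : SU 3 F 5 → X F := fun g => ⟨mat g *ᵥ e1, by rw [mat_herm, herm_e1_e1]⟩
  have hx : ∀ g, mat (t (x g)) *ᵥ e1 = mat g *ᵥ e1 := fun g => ht (x g) ⟨g, rfl⟩
  have hfix : ∀ g, mat ((t (x g))⁻¹ * g) *ᵥ e1 = e1 := by
    intro g
    rw [mat_mul_mulVec, ← hx g, mat_inv_mulVec]
  let f : SU 3 F 5 → X F × Y F := fun g => (x g, ⟨mat ((t (x g))⁻¹ * g) *ᵥ e2, by
    constructor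
    · have h := mat_herm ((t (x g))⁻¹ * g) e1 e2
      rw [hfix g, herm_e1_e2, herm_e1] at h
      exact pow_eq_zero_iff (by norm_num) |>.mp h
    · rw [mat_herm, herm_e2_e2]⟩)
  have hf : Function.Injective f := by
    intro g h hgh
    have h1 : x g = x h := congrArg Prod.fst hgh
    have h2 : mat ((t (x g))⁻¹ * g) *ᵥ e2 = mat ((t (x h))⁻¹ * h) *ᵥ e2 :=
      congrArg Subtype.val (congrArg Prod.snd hgh)
    rw [← h1] at h2
    have h3 : mat g *ᵥ e2 = mat h *ᵥ e2 := by
      have h4 := congrArg (fun v => mat (t (x g)) *ᵥ v) h2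
      simp only [mat_mul_mulVec, mat_mulVec_inv] at h4
      exact h4
    have h5 : mat g *ᵥ e1 = mat h *ᵥ e1 := congrArg Subtype.val h1
    have h6 : g⁻¹ * h = 1 := by
      apply eq_one_of_fix
      · rw [mat_mul_mulVec, ← h5, mat_inv_mulVec]
      · rw [mat_mul_mulVec, ← h3, mat_inv_mulVec]
    exact (inv_mul_eq_one.mp h6)
  calc Nat.card (SU 3 F 5) ≤ Nat.card (X F × Y F) := Nat.card_le_card_of_injective f hf
    _ = Nat.card (X F) * Nat.card (Y F) := Nat.card_prod _ _

/-- norm of a code, modulo 5 -/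
def nmN (a : ℕ) : ℕ := ((a % 5) * (a % 5) + 3 * ((a / 5) * (a / 5))) % 5

theorem e_mul_pow (h5 : (5 : F) = 0) (θ : F) (hθ : θ ^ 2 = 2) (a : ℕ) :
    e θ a * (e θ a) ^ 5 = ((nmN a : ℕ) : F) := by
  have h1 : ((nmN a : ℕ) : F) = ((a % 5 : ℕ) : F) ^ 2 + 3 * ((a / 5 : ℕ) : F) ^ 2 := by
    unfold nmN
    rw [cast_mod5 h5]; push_cast; ring
  have h2 : (e θ a) ^ 5 = ((a % 5 : ℕ) : F) + 4 * ((a / 5 : ℕ) : F) * θ := by
    rw [← e_conj h5 θ hθ]
    unfold conjN
    rw [e_pair h5 θ _ _ (Nat.mod_lt _ (by norm_num)), cast_mod5 h5 (4 * (a / 5))]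
    push_cast; ring
  rw [h1, h2]
  unfold e
  linear_combination (4 * ((a / 5 : ℕ) : F) ^ 2) * hθ +
    (((a % 5 : ℕ) : F) * ((a / 5 : ℕ) : F) * θ + ((a / 5 : ℕ) : F) ^ 2) * h5

theorem herm_vec (h5 : (5 : F) = 0) (θ : F) (hθ : θ ^ 2 = 2) (a b c : ℕ) :
    hermForm 3 F 5 ![e θ a, e θ b, e θ c] ![e θ a, e θ b, e θ c] =
      ((nmN a + nmN b + nmN c : ℕ) : F) := by
  unfold hermForm
  rw [Fin.sum_univ_three]
  simp only [Matrix.cons_val_zero, Matrix.cons_val_one, Matrix.cons_val]
  rw [e_mul_pow h5 θ hθ, e_mul_pow h5 θ hθ, e_mul_pow h5 θ hθ]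
  push_cast; ring

theorem cast_eq_one_iff (h5 : (5 : F) = 0) (n : ℕ) : ((n : F) = 1) ↔ n % 5 = 1 := by
  constructor
  · intro h
    rw [← cast_mod5 h5] at h
    exact cast_inj5 h5 (Nat.mod_lt _ (by norm_num)) (by norm_num) (by rw [h]; simp)
  · intro h
    rw [← cast_mod5 h5, h]; simp

theorem cnt_check : (∑ a : Fin 25, Fintype.card {p : Fin 25 × Fin 25 // (nmN a + nmN p.1 + nmN p.2) % 5 = 1}) = 3150 := by
  decide +kernel

theorem cnt_check2 : Fintype.card {p : Fin 25 × Fin 25 // (nmN p.1 + nmN p.2) % 5 = 1} = 120 := by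
  decide +kernel

section count
variable [Fintype F] (hF : Fintype.card F = 25)

include hF

theorem card_X : Nat.card (X F) = 3150 := by
  obtain ⟨h5, θ, hθ⟩ := exists_theta hF
  let E' := E hF h5 θ hθ
  have hE : ∀ n : Fin 25, E' n = e θ (n : ℕ) := fun n => rfl
  let φ : (Σ a : Fin 25, {p : Fin 25 × Fin 25 // (nmN a + nmN p.1 + nmN p.2) % 5 = 1}) → X F :=
    fun t => ⟨![e θ t.1, e θ t.2.1.1, e θ t.2.1.2], by
      rw [herm_vec h5 θ hθ, cast_eq_one_iff h5]; exact t.2.2⟩
  have hφ : Function.Bijective φ := by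
    constructor
    · rintro ⟨a, ⟨b, c⟩, h⟩ ⟨a', ⟨b', c'⟩, h'⟩ hh
      have h1 : (![e θ (a : ℕ), e θ (b : ℕ), e θ (c : ℕ)] : Fin 3 → F) = ![e θ a', e θ b', e θ c'] :=
        congrArg Subtype.val hh
      have ha : a = a' := by
        have := congrFun h1 0
        simp only [Matrix.cons_val_zero] at this
        exact Fin.ext (e_inj h5 θ hθ a.2 a'.2 this)
      have hb : b = b' := by
        have := congrFun h1 1
        simp only [Matrix.cons_val_one, Matrix.cons_val_zero] at this
        exact Fin.ext (e_inj h5 θ hθ b.2 b'.2 this)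
      have hc : c = c' := by
        have := congrFun h1 2
        simp only [Matrix.cons_val] at this
        exact Fin.ext (e_inj h5 θ hθ c.2 c'.2 this)
      subst ha hb hc
      rfl
    · rintro ⟨u, hu⟩
      obtain ⟨a, ha, hau⟩ := exists_code hF h5 θ hθ (u 0)
      obtain ⟨b, hb, hbu⟩ := exists_code hF h5 θ hθ (u 1)
      obtain ⟨c, hc, hcu⟩ := exists_code hF h5 θ hθ (u 2)
      have hv : u = ![e θ a, e θ b, e θ c] := by
        funext i; fin_cases i <;> simp [hau, hbu, hcu]
      refine ⟨⟨⟨a, ha⟩, ⟨⟨⟨b, hb⟩, ⟨c, hc⟩⟩, ?_⟩⟩, ?_⟩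
      · have := hu
        rw [hv, herm_vec h5 θ hθ, cast_eq_one_iff h5] at this
        exact this
      · apply Subtype.ext
        exact hv.symm
  rw [← Nat.card_congr (Equiv.ofBijective φ hφ), Nat.card_eq_fintype_card, Fintype.card_sigma]
  exact cnt_check

theorem card_Y : Nat.card (Y F) = 120 := by
  obtain ⟨h5, θ, hθ⟩ := exists_theta hF
  let φ : {p : Fin 25 × Fin 25 // (nmN p.1 + nmN p.2) % 5 = 1} → Y F :=
    fun t => ⟨![0, e θ t.1.1, e θ t.1.2], by
      refine ⟨rfl, ?_⟩
      have h0 : (0 : F) = e θ 0 := (e_zero θ).symm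
      rw [h0, herm_vec h5 θ hθ, cast_eq_one_iff h5]
      have := t.2
      simpa [nmN] using this⟩
  have hφ : Function.Bijective φ := by
    constructor
    · rintro ⟨⟨b, c⟩, h⟩ ⟨⟨b', c'⟩, h'⟩ hh
      have h1 : (![0, e θ (b : ℕ), e θ (c : ℕ)] : Fin 3 → F) = ![0, e θ b', e θ c'] :=
        congrArg Subtype.val hh
      have hb : b = b' := by
        have := congrFun h1 1
        simp only [Matrix.cons_val_one, Matrix.cons_val_zero] at this
        exact Fin.ext (e_inj h5 θ hθ b.2 b'.2 this)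
      have hc : c = c' := by
        have := congrFun h1 2
        simp only [Matrix.cons_val] at this
        exact Fin.ext (e_inj h5 θ hθ c.2 c'.2 this)
      subst hb hc
      rfl
    · rintro ⟨u, hu0, hu⟩
      obtain ⟨b, hb, hbu⟩ := exists_code hF h5 θ hθ (u 1)
      obtain ⟨c, hc, hcu⟩ := exists_code hF h5 θ hθ (u 2)
      have hv : u = ![e θ 0, e θ b, e θ c] := by
        funext i; fin_cases i <;> simp [hbu, hcu, hu0, e_zero]
      refine ⟨⟨⟨⟨b, hb⟩, ⟨c, hc⟩⟩, ?_⟩, ?_⟩
      · have := hu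
        rw [hv, herm_vec h5 θ hθ, cast_eq_one_iff h5] at this
        simpa [nmN] using this
      · apply Subtype.ext
        rw [e_zero] at hv
        exact hv.symm
  rw [← Nat.card_congr (Equiv.ofBijective φ hφ), Nat.card_eq_fintype_card]
  exact cnt_check2

theorem card_SU_le' : Nat.card (SU 3 F 5) ≤ 378000 := by
  have h := card_SU_le (F := F)
  rw [card_X hF, card_Y hF] at h
  exact h

end count

end Cfsg.Agent.SporStruct.U35SU
end

-- part: SporStruct/U35Col
section
set_option autoImplicit false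

namespace Cfsg.Agent.SporStruct.U35Col

open Cfsg Matrix
open Cfsg.Agent.SporStruct.U35Field Cfsg.Agent.SporStruct.U35Table Cfsg.Agent.SporStruct.U35SU

variable {F : Type} [Field F]

open Classical in
/-- the mask of a vector with coordinates `x y z` -/
noncomputable def Mk3 (E' : Fin 25 ≃ F) (x y z : F) : ℕ :=
  if x = 0 then
    (if y = 0 then (if z = 0 then 0 else entry 650)
      else entry (625 + (E'.symm (z / y) : ℕ)))
  else entry (25 * (E'.symm (y / x) : ℕ) + (E'.symm (z / x) : ℕ))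

theorem Mk3_smul (E' : Fin 25 ≃ F) (l : F) (hl : l ≠ 0) (x y z : F) :
    Mk3 E' (l * x) (l * y) (l * z) = Mk3 E' x y z := by
  unfold Mk3
  rw [mul_div_mul_left _ _ hl, mul_div_mul_left _ _ hl, mul_div_mul_left _ _ hl]
  by_cases hx : x = 0
  · have hx' : l * x = 0 := by rw [hx, mul_zero]
    rw [if_pos hx, if_pos hx']
    by_cases hy : y = 0
    · have hy' : l * y = 0 := by rw [hy, mul_zero]
      rw [if_pos hy, if_pos hy']
      by_cases hz : z = 0
      · have hz' : l * z = 0 := by rw [hz, mul_zero]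
        rw [if_pos hz, if_pos hz']
      · rw [if_neg hz, if_neg (mul_ne_zero hl hz)]
    · rw [if_neg hy, if_neg (mul_ne_zero hl hy)]
  · rw [if_neg hx, if_neg (mul_ne_zero hl hx)]

/-- the mask of a vector -/
noncomputable def Mk (E' : Fin 25 ≃ F) (u : Fin 3 → F) : ℕ := Mk3 E' (u 0) (u 1) (u 2)

theorem Mk_smul (E' : Fin 25 ≃ F) (l : F) (hl : l ≠ 0) (u : Fin 3 → F) :
    Mk E' (l • u) = Mk E' u := Mk3_smul E' l hl _ _ _

theorem Mk_zero (E' : Fin 25 ≃ F) : Mk E' 0 = 0 := by
  unfold Mk Mk3; simp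

section
variable [Fintype F] (hF : Fintype.card F = 25) (h5 : (5 : F) = 0) (θ : F) (hθ : θ ^ 2 = 2)

/-- vector with given codes -/
def vec (θ : F) (a b c : ℕ) : Fin 3 → F := ![e θ a, e θ b, e θ c]

theorem Mk_vec {a b c : ℕ} (ha : a < 25) (hb : b < 25) (hc : c < 25) :
    Mk (E hF h5 θ hθ) (vec θ a b c) = colN a b c := by
  change Mk3 (E hF h5 θ hθ) (e θ a) (e θ b) (e θ c) = colN a b c
  unfold Mk3 colN
  have key : ∀ x < 25, ∀ y < 25, x ≠ 0 →
      ((E hF h5 θ hθ).symm (e θ y / e θ x) : ℕ) = mulN y (invN x) := by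
    intro x hx y hy hx0
    rw [div_eq_mul_inv, ← e_inv h5 θ hθ hx hx0, ← e_mul h5 θ hθ]
    exact E_symm_e hF h5 θ hθ (mulN_lt _ _)
  by_cases ha0 : a = 0
  · subst ha0
    rw [if_pos (e_zero θ)]
    by_cases hb0 : b = 0
    · subst hb0
      rw [if_pos (e_zero θ)]
      by_cases hc0 : c = 0
      · subst hc0
        rw [if_pos (e_zero θ)]
        rfl
      · rw [if_neg (e_ne_zero h5 θ hθ hc hc0)]
        have : Nat.beq c 0 = false := by
          cases c with
          | zero => exact absurd rfl hc0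
          | succ n => rfl
        rw [this]; rfl
    · rw [if_neg (e_ne_zero h5 θ hθ hb hb0), key b hb c hc hb0]
      have : Nat.beq b 0 = false := by
        cases b with
        | zero => exact absurd rfl hb0
        | succ n => rfl
      rw [this]; rfl
  · rw [if_neg (e_ne_zero h5 θ hθ ha ha0), key a ha b hb ha0, key a ha c hc ha0]
    have : Nat.beq a 0 = false := by
      cases a with
      | zero => exact absurd rfl ha0
      | succ n => rfl
    rw [this]; rfl

/-- the matrix with given codes -/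
def matF (θ : F) (m : Mat3) : Matrix (Fin 3) (Fin 3) F :=
  !![e θ m.a, e θ m.b, e θ m.c; e θ m.d, e θ m.e, e θ m.f; e θ m.g, e θ m.h, e θ m.i]

omit [Fintype F] in
include h5 hθ in
theorem matF_mulVec (m : Mat3) (a b c : ℕ) :
    matF θ m *ᵥ vec θ a b c = vec θ (rowN m.a m.b m.c a b c) (rowN m.d m.e m.f a b c)
      (rowN m.g m.h m.i a b c) := by
  have hr : ∀ x y z : ℕ, e θ (rowN x y z a b c) = e θ x * e θ a + e θ y * e θ b + e θ z * e θ c := by
    intro x y z
    unfold rowN
    rw [e_add h5, e_add h5, e_mul h5 θ hθ, e_mul h5 θ hθ, e_mul h5 θ hθ]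
  unfold vec
  rw [hr, hr, hr]
  funext i
  fin_cases i <;> simp [matF, Matrix.mulVec, dotProduct, Fin.sum_univ_three]

include hF h5 hθ in
theorem exists_vec (u : Fin 3 → F) :
    ∃ a b c : ℕ, a < 25 ∧ b < 25 ∧ c < 25 ∧ u = vec θ a b c := by
  obtain ⟨a, ha, hau⟩ := exists_code hF h5 θ hθ (u 0)
  obtain ⟨b, hb, hbu⟩ := exists_code hF h5 θ hθ (u 1)
  obtain ⟨c, hc, hcu⟩ := exists_code hF h5 θ hθ (u 2)
  refine ⟨a, b, c, ha, hb, hc, ?_⟩
  funext i; fin_cases i <;> simp [vec, hau, hbu, hcu]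

include hF h5 hθ in
/-- every nonzero vector is a multiple of a normalised one -/
theorem exists_rep (u : Fin 3 → F) (hu : u ≠ 0) :
    ∃ (l : F) (a b c : ℕ), l ≠ 0 ∧ u = l • vec θ a b c ∧
      ((a = 1 ∧ b < 25 ∧ c < 25) ∨ (a = 0 ∧ b = 1 ∧ c < 25) ∨ (a = 0 ∧ b = 0 ∧ c = 1)) := by
  by_cases h0 : u 0 = 0
  · by_cases h1 : u 1 = 0
    · have h2 : u 2 ≠ 0 := by
        intro h2
        apply hu
        funext i; fin_cases i <;> simp [h0, h1, h2]
      refine ⟨u 2, 0, 0, 1, h2, ?_, Or.inr (Or.inr ⟨rfl, rfl, rfl⟩)⟩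
      funext i; fin_cases i <;> simp [vec, e_zero, e_one, h0, h1]
    · obtain ⟨c, hc, hcu⟩ := exists_code hF h5 θ hθ (u 2 / u 1)
      refine ⟨u 1, 0, 1, c, h1, ?_, Or.inr (Or.inl ⟨rfl, rfl, hc⟩)⟩
      funext i; fin_cases i <;> simp [vec, e_zero, e_one, h0, hcu, mul_div_cancel₀ _ h1]
  · obtain ⟨b, hb, hbu⟩ := exists_code hF h5 θ hθ (u 1 / u 0)
    obtain ⟨c, hc, hcu⟩ := exists_code hF h5 θ hθ (u 2 / u 0)
    refine ⟨u 0, 1, b, c, h0, ?_, Or.inl ⟨rfl, hb, hc⟩⟩
    funext i; fin_cases i <;> simp [vec, e_one, hbu, hcu, mul_div_cancel₀ _ h0]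

theorem chkMask_spec {P M' M : ℕ} (h : chkMask P M' M = true) (j : ℕ) (hj : j < 50) :
    bt M' (papp P j) = bt M j := by
  unfold chkMask at h
  rw [force_eq, force_eq] at h
  exact Nat.eq_of_beq_eq_true (allLt_spec _ _ h j hj)

theorem rowN_lt (x y z a b c : ℕ) : rowN x y z a b c < 25 := addN_lt _ _

theorem chkPt_spec {m : Mat3} {P a b c : ℕ} (h : chkPt m P a b c = true)
    (ha : a < 25) (hb : b < 25) (hc : c < 25) (j : ℕ) (hj : j < 50) :
    bt (Mk (E hF h5 θ hθ) (matF θ m *ᵥ vec θ a b c)) (papp P j) =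
      bt (Mk (E hF h5 θ hθ) (vec θ a b c)) j := by
  unfold chkPt at h
  rw [force_eq, force_eq, force_eq] at h
  rw [matF_mulVec h5 θ hθ, Mk_vec hF h5 θ hθ (rowN_lt _ _ _ _ _ _) (rowN_lt _ _ _ _ _ _)
    (rowN_lt _ _ _ _ _ _), Mk_vec hF h5 θ hθ ha hb hc]
  exact chkMask_spec h j hj

theorem bt_zero (j : ℕ) : bt 0 j = 0 := by simp [bt]

theorem chkGen_spec {m : Mat3} {P : ℕ} (h : chkGen m P = true) (u : Fin 3 → F) (j : ℕ)
    (hj : j < 50) :
    bt (Mk (E hF h5 θ hθ) (matF θ m *ᵥ u)) (papp P j) = bt (Mk (E hF h5 θ hθ) u) j := by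
  unfold chkGen at h
  rw [Bool.and_eq_true, Bool.and_eq_true] at h
  obtain ⟨h1, h2, h3⟩ := h
  by_cases hu : u = 0
  · subst hu
    rw [Matrix.mulVec_zero, Mk_zero, bt_zero, bt_zero]
  · obtain ⟨l, a, b, c, hl, hul, hcase⟩ := exists_rep hF h5 θ hθ u hu
    rw [hul, Matrix.mulVec_smul, Mk_smul _ _ hl, Mk_smul _ _ hl]
    rcases hcase with ⟨rfl, hb, hc⟩ | ⟨rfl, rfl, hc⟩ | ⟨rfl, rfl, rfl⟩
    · exact chkPt_spec hF h5 θ hθ (allLt_spec _ _ (allLt_spec _ _ h1 b hb) c hc)
        (by norm_num) hb hc j hj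
    · exact chkPt_spec hF h5 θ hθ (allLt_spec _ _ h2 c hc) (by norm_num) (by norm_num) hc j hj
    · exact chkPt_spec hF h5 θ hθ h3 (by norm_num) (by norm_num) (by norm_num) j hj

end

/-- separation of the vertices by the masks: `sep j` is the conjunction of the masks containing `j` -/
def sepChk : Bool :=
  allLt (fun j => allLt (fun k => or (Nat.beq j k)
    (not (allLt (fun i => or (Nat.beq (bt (entry i) j) 0) (Nat.beq (bt (entry i) k) 1)) 625))) 50) 50

theorem sepChk_true : sepChk = true := by decide +kernel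

/-- masks determining the four points e1, e2, e3, (1,1,1) -/
def uniqChk (k : ℕ) : Bool :=
  force (entry k) fun M => allLt (fun i => or (Nat.beq i k) (not (Nat.beq (entry i) M))) 651

theorem uniq1 : uniqChk 0 = true := by decide +kernel
theorem uniq2 : uniqChk 625 = true := by decide +kernel
theorem uniq3 : uniqChk 650 = true := by decide +kernel
theorem uniq4 : uniqChk 26 = true := by decide +kernel

end Cfsg.Agent.SporStruct.U35Col
end

-- part: SporStruct/U35K50
section
set_option autoImplicit false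

namespace Cfsg.Agent.SporStruct.U35K50

open Cfsg.Agent.SporStruct.U35Table

/-- generator 0 -/
def s0 : Equiv.Perm (Fin 50) := mkPerm P0 Q0 cP0
/-- generator 1 -/
def s1 : Equiv.Perm (Fin 50) := mkPerm P1 Q1 cP1
/-- generator 2 -/
def s2 : Equiv.Perm (Fin 50) := mkPerm P2 Q2 cP2
/-- generator 3 -/
def s3 : Equiv.Perm (Fin 50) := mkPerm P3 Q3 cP3
/-- generator 4 -/
def s4 : Equiv.Perm (Fin 50) := mkPerm P4 Q4 cP4
/-- generator 5 -/
def s5 : Equiv.Perm (Fin 50) := mkPerm P5 Q5 cP5

/-- the group -/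
def K50 : Subgroup (Equiv.Perm (Fin 50)) := Subgroup.closure {s0, s1, s2, s3, s4, s5}

theorem s0_mem : s0 ∈ K50 := Subgroup.subset_closure (by simp)
theorem s1_mem : s1 ∈ K50 := Subgroup.subset_closure (by simp)
theorem s2_mem : s2 ∈ K50 := Subgroup.subset_closure (by simp)
theorem s3_mem : s3 ∈ K50 := Subgroup.subset_closure (by simp)
theorem s4_mem : s4 ∈ K50 := Subgroup.subset_closure (by simp)
theorem s5_mem : s5 ∈ K50 := Subgroup.subset_closure (by simp)

/-- orbit-stabiliser inequality for a subgroup -/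
theorem card_ge (H : Subgroup (Equiv.Perm (Fin 50))) (b : Fin 50) (S : Finset (Fin 50))
    (h : ∀ s ∈ S, ∃ g ∈ H, g b = s) :
    S.card * Nat.card (H ⊓ MulAction.stabilizer (Equiv.Perm (Fin 50)) b : Subgroup _) ≤ Nat.card H := by
  classical
  choose! t ht htb using h
  let f : (S × (H ⊓ MulAction.stabilizer (Equiv.Perm (Fin 50)) b : Subgroup _)) → H :=
    fun p => ⟨t p.1 * p.2.1, H.mul_mem (ht p.1 p.1.2) p.2.2.1⟩
  have hf : Function.Injective f := by
    rintro ⟨⟨s, hs⟩, k, hk⟩ ⟨⟨s', hs'⟩, k', hk'⟩ hh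
    have h1 : t s * k = t s' * k' := congrArg Subtype.val hh
    have hkb : k b = b := hk.2
    have hkb' : k' b = b := hk'.2
    have h2 : s = s' := by
      have h3 := congrArg (fun g : Equiv.Perm (Fin 50) => g b) h1
      simp only [Equiv.Perm.mul_apply, hkb, hkb', htb s hs, htb s' hs'] at h3
      exact h3
    subst h2
    have h4 : k = k' := mul_left_cancel h1
    subst h4
    rfl
  have := Nat.card_le_card_of_injective f hf
  rw [Nat.card_prod, Nat.card_eq_fintype_card (α := S), Fintype.card_coe] at this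
  exact this

theorem step {H : Subgroup (Equiv.Perm (Fin 50))} {b s t : Fin 50} {σ : Equiv.Perm (Fin 50)}
    (hσ : σ ∈ H) (h : ∃ g ∈ H, g b = s) (hst : σ s = t) : ∃ g ∈ H, g b = t := by
  obtain ⟨g, hg, hgb⟩ := h
  exact ⟨σ * g, H.mul_mem hσ hg, by rw [Equiv.Perm.mul_apply, hgb, hst]⟩

theorem start (H : Subgroup (Equiv.Perm (Fin 50))) (b : Fin 50) : ∃ g ∈ H, g b = b :=
  ⟨1, H.one_mem, rfl⟩

theorem trans50 (s : Fin 50) : ∃ g ∈ K50, g 0 = s := by
  have r0 := start K50 0
  have r15 : ∃ g ∈ K50, g 0 = 15 := step s0_mem r0 (by decide +kernel)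
  have r30 : ∃ g ∈ K50, g 0 = 30 := step s1_mem r15 (by decide +kernel)
  have r22 : ∃ g ∈ K50, g 0 = 22 := step s2_mem r15 (by decide +kernel)
  have r29 : ∃ g ∈ K50, g 0 = 29 := step s3_mem r15 (by decide +kernel)
  have r12 : ∃ g ∈ K50, g 0 = 12 := step s4_mem r15 (by decide +kernel)
  have r24 : ∃ g ∈ K50, g 0 = 24 := step s5_mem r15 (by decide +kernel)
  have r28 : ∃ g ∈ K50, g 0 = 28 := step s0_mem r30 (by decide +kernel)
  have r48 : ∃ g ∈ K50, g 0 = 48 := step s1_mem r30 (by decide +kernel)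
  have r33 : ∃ g ∈ K50, g 0 = 33 := step s2_mem r30 (by decide +kernel)
  have r20 : ∃ g ∈ K50, g 0 = 20 := step s3_mem r30 (by decide +kernel)
  have r14 : ∃ g ∈ K50, g 0 = 14 := step s5_mem r30 (by decide +kernel)
  have r1 : ∃ g ∈ K50, g 0 = 1 := step s0_mem r22 (by decide +kernel)
  have r10 : ∃ g ∈ K50, g 0 = 10 := step s3_mem r22 (by decide +kernel)
  have r37 : ∃ g ∈ K50, g 0 = 37 := step s4_mem r22 (by decide +kernel)
  have r49 : ∃ g ∈ K50, g 0 = 49 := step s3_mem r29 (by decide +kernel)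
  have r38 : ∃ g ∈ K50, g 0 = 38 := step s4_mem r29 (by decide +kernel)
  have r32 : ∃ g ∈ K50, g 0 = 32 := step s2_mem r12 (by decide +kernel)
  have r46 : ∃ g ∈ K50, g 0 = 46 := step s1_mem r28 (by decide +kernel)
  have r25 : ∃ g ∈ K50, g 0 = 25 := step s2_mem r28 (by decide +kernel)
  have r23 : ∃ g ∈ K50, g 0 = 23 := step s3_mem r28 (by decide +kernel)
  have r36 : ∃ g ∈ K50, g 0 = 36 := step s4_mem r28 (by decide +kernel)
  have r13 : ∃ g ∈ K50, g 0 = 13 := step s5_mem r28 (by decide +kernel)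
  have r18 : ∃ g ∈ K50, g 0 = 18 := step s0_mem r48 (by decide +kernel)
  have r47 : ∃ g ∈ K50, g 0 = 47 := step s1_mem r48 (by decide +kernel)
  have r19 : ∃ g ∈ K50, g 0 = 19 := step s2_mem r48 (by decide +kernel)
  have r45 : ∃ g ∈ K50, g 0 = 45 := step s3_mem r48 (by decide +kernel)
  have r7 : ∃ g ∈ K50, g 0 = 7 := step s0_mem r33 (by decide +kernel)
  have r11 : ∃ g ∈ K50, g 0 = 11 := step s2_mem r33 (by decide +kernel)
  have r39 : ∃ g ∈ K50, g 0 = 39 := step s5_mem r33 (by decide +kernel)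
  have r16 : ∃ g ∈ K50, g 0 = 16 := step s2_mem r20 (by decide +kernel)
  have r31 : ∃ g ∈ K50, g 0 = 31 := step s0_mem r14 (by decide +kernel)
  have r17 : ∃ g ∈ K50, g 0 = 17 := step s1_mem r14 (by decide +kernel)
  have r43 : ∃ g ∈ K50, g 0 = 43 := step s4_mem r14 (by decide +kernel)
  have r2 : ∃ g ∈ K50, g 0 = 2 := step s1_mem r1 (by decide +kernel)
  have r8 : ∃ g ∈ K50, g 0 = 8 := step s0_mem r37 (by decide +kernel)
  have r9 : ∃ g ∈ K50, g 0 = 9 := step s0_mem r46 (by decide +kernel)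
  have r41 : ∃ g ∈ K50, g 0 = 41 := step s1_mem r46 (by decide +kernel)
  have r35 : ∃ g ∈ K50, g 0 = 35 := step s3_mem r46 (by decide +kernel)
  have r21 : ∃ g ∈ K50, g 0 = 21 := step s5_mem r25 (by decide +kernel)
  have r27 : ∃ g ∈ K50, g 0 = 27 := step s3_mem r23 (by decide +kernel)
  have r5 : ∃ g ∈ K50, g 0 = 5 := step s0_mem r36 (by decide +kernel)
  have r40 : ∃ g ∈ K50, g 0 = 40 := step s5_mem r36 (by decide +kernel)
  have r34 : ∃ g ∈ K50, g 0 = 34 := step s2_mem r18 (by decide +kernel)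
  have r42 : ∃ g ∈ K50, g 0 = 42 := step s4_mem r18 (by decide +kernel)
  have r44 : ∃ g ∈ K50, g 0 = 44 := step s5_mem r18 (by decide +kernel)
  have r6 : ∃ g ∈ K50, g 0 = 6 := step s0_mem r47 (by decide +kernel)
  have r3 : ∃ g ∈ K50, g 0 = 3 := step s3_mem r7 (by decide +kernel)
  have r26 : ∃ g ∈ K50, g 0 = 26 := step s3_mem r9 (by decide +kernel)
  have r4 : ∃ g ∈ K50, g 0 = 4 := step s0_mem r27 (by decide +kernel)
  fin_cases s
  · exact r0
  · exact r1
  · exact r2
  · exact r3
  · exact r4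
  · exact r5
  · exact r6
  · exact r7
  · exact r8
  · exact r9
  · exact r10
  · exact r11
  · exact r12
  · exact r13
  · exact r14
  · exact r15
  · exact r16
  · exact r17
  · exact r18
  · exact r19
  · exact r20
  · exact r21
  · exact r22
  · exact r23
  · exact r24
  · exact r25
  · exact r26
  · exact r27
  · exact r28
  · exact r29
  · exact r30
  · exact r31
  · exact r32
  · exact r33
  · exact r34
  · exact r35
  · exact r36
  · exact r37
  · exact r38
  · exact r39
  · exact r40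
  · exact r41
  · exact r42
  · exact r43
  · exact r44
  · exact r45
  · exact r46
  · exact r47
  · exact r48
  · exact r49

/-- stabiliser chain -/
def H1 : Subgroup (Equiv.Perm (Fin 50)) := K50 ⊓ MulAction.stabilizer (Equiv.Perm (Fin 50)) (0 : Fin 50)
/-- stabiliser chain -/
def H2 : Subgroup (Equiv.Perm (Fin 50)) := H1 ⊓ MulAction.stabilizer (Equiv.Perm (Fin 50)) (1 : Fin 50)
/-- stabiliser chain -/
def H3 : Subgroup (Equiv.Perm (Fin 50)) := H2 ⊓ MulAction.stabilizer (Equiv.Perm (Fin 50)) (2 : Fin 50)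
/-- stabiliser chain -/
def H4 : Subgroup (Equiv.Perm (Fin 50)) := H3 ⊓ MulAction.stabilizer (Equiv.Perm (Fin 50)) (3 : Fin 50)
/-- stabiliser chain -/
def H5 : Subgroup (Equiv.Perm (Fin 50)) := H4 ⊓ MulAction.stabilizer (Equiv.Perm (Fin 50)) (4 : Fin 50)

theorem stab_mem {σ : Equiv.Perm (Fin 50)} {b : Fin 50} (h : σ b = b) :
    σ ∈ MulAction.stabilizer (Equiv.Perm (Fin 50)) b := h

theorem s1_mem1 : s1 ∈ H1 := ⟨s1_mem, stab_mem (by decide +kernel)⟩
theorem s2_mem1 : s2 ∈ H1 := ⟨s2_mem, stab_mem (by decide +kernel)⟩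
theorem s3_mem1 : s3 ∈ H1 := ⟨s3_mem, stab_mem (by decide +kernel)⟩
theorem s4_mem1 : s4 ∈ H1 := ⟨s4_mem, stab_mem (by decide +kernel)⟩
theorem s5_mem1 : s5 ∈ H1 := ⟨s5_mem, stab_mem (by decide +kernel)⟩
theorem s2_mem2 : s2 ∈ H2 := ⟨s2_mem1, stab_mem (by decide +kernel)⟩
theorem s3_mem2 : s3 ∈ H2 := ⟨s3_mem1, stab_mem (by decide +kernel)⟩
theorem s4_mem2 : s4 ∈ H2 := ⟨s4_mem1, stab_mem (by decide +kernel)⟩
theorem s5_mem2 : s5 ∈ H2 := ⟨s5_mem1, stab_mem (by decide +kernel)⟩
theorem s3_mem3 : s3 ∈ H3 := ⟨s3_mem2, stab_mem (by decide +kernel)⟩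
theorem s4_mem3 : s4 ∈ H3 := ⟨s4_mem2, stab_mem (by decide +kernel)⟩
theorem s5_mem3 : s5 ∈ H3 := ⟨s5_mem2, stab_mem (by decide +kernel)⟩
theorem s4_mem4 : s4 ∈ H4 := ⟨s4_mem3, stab_mem (by decide +kernel)⟩
theorem s5_mem4 : s5 ∈ H4 := ⟨s5_mem3, stab_mem (by decide +kernel)⟩
theorem s5_mem5 : s5 ∈ H5 := ⟨s5_mem4, stab_mem (by decide +kernel)⟩
theorem orb1 : ∀ s ∈ (Finset.Icc (1 : Fin 50) 7), ∃ g ∈ H1, g 1 = s := by
  have r1 := start H1 1
  have r2 : ∃ g ∈ H1, g 1 = 2 := step s1_mem1 r1 (by decide +kernel)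
  have r3 : ∃ g ∈ H1, g 1 = 3 := step s1_mem1 r2 (by decide +kernel)
  have r4 : ∃ g ∈ H1, g 1 = 4 := step s1_mem1 r3 (by decide +kernel)
  have r5 : ∃ g ∈ H1, g 1 = 5 := step s1_mem1 r4 (by decide +kernel)
  have r6 : ∃ g ∈ H1, g 1 = 6 := step s1_mem1 r5 (by decide +kernel)
  have r7 : ∃ g ∈ H1, g 1 = 7 := step s1_mem1 r6 (by decide +kernel)
  intro s hs
  have hs1 : 1 ≤ (s : ℕ) ∧ (s : ℕ) ≤ 7 := by
    rw [Finset.mem_Icc] at hs
    exact ⟨Fin.le_def.mp hs.1, Fin.le_def.mp hs.2⟩
  obtain ⟨n, hn⟩ := s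
  simp only at hs1
  obtain ⟨h1, h2⟩ := hs1
  interval_cases n
  · exact r1
  · exact r2
  · exact r3
  · exact r4
  · exact r5
  · exact r6
  · exact r7
theorem orb2 : ∀ s ∈ (Finset.Icc (2 : Fin 50) 7), ∃ g ∈ H2, g 2 = s := by
  have r2 := start H2 2
  have r3 : ∃ g ∈ H2, g 2 = 3 := step s2_mem2 r2 (by decide +kernel)
  have r4 : ∃ g ∈ H2, g 2 = 4 := step s2_mem2 r3 (by decide +kernel)
  have r5 : ∃ g ∈ H2, g 2 = 5 := step s2_mem2 r4 (by decide +kernel)
  have r6 : ∃ g ∈ H2, g 2 = 6 := step s2_mem2 r5 (by decide +kernel)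
  have r7 : ∃ g ∈ H2, g 2 = 7 := step s3_mem2 r6 (by decide +kernel)
  intro s hs
  have hs1 : 2 ≤ (s : ℕ) ∧ (s : ℕ) ≤ 7 := by
    rw [Finset.mem_Icc] at hs
    exact ⟨Fin.le_def.mp hs.1, Fin.le_def.mp hs.2⟩
  obtain ⟨n, hn⟩ := s
  simp only at hs1
  obtain ⟨h1, h2⟩ := hs1
  interval_cases n
  · exact r2
  · exact r3
  · exact r4
  · exact r5
  · exact r6
  · exact r7
theorem orb3 : ∀ s ∈ (Finset.Icc (3 : Fin 50) 7), ∃ g ∈ H3, g 3 = s := by
  have r3 := start H3 3
  have r4 : ∃ g ∈ H3, g 3 = 4 := step s3_mem3 r3 (by decide +kernel)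
  have r5 : ∃ g ∈ H3, g 3 = 5 := step s3_mem3 r4 (by decide +kernel)
  have r6 : ∃ g ∈ H3, g 3 = 6 := step s3_mem3 r5 (by decide +kernel)
  have r7 : ∃ g ∈ H3, g 3 = 7 := step s3_mem3 r6 (by decide +kernel)
  intro s hs
  have hs1 : 3 ≤ (s : ℕ) ∧ (s : ℕ) ≤ 7 := by
    rw [Finset.mem_Icc] at hs
    exact ⟨Fin.le_def.mp hs.1, Fin.le_def.mp hs.2⟩
  obtain ⟨n, hn⟩ := s
  simp only at hs1
  obtain ⟨h1, h2⟩ := hs1
  interval_cases n
  · exact r3
  · exact r4
  · exact r5
  · exact r6
  · exact r7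
theorem orb4 : ∀ s ∈ (Finset.Icc (4 : Fin 50) 7), ∃ g ∈ H4, g 4 = s := by
  have r4 := start H4 4
  have r5 : ∃ g ∈ H4, g 4 = 5 := step s4_mem4 r4 (by decide +kernel)
  have r6 : ∃ g ∈ H4, g 4 = 6 := step s4_mem4 r5 (by decide +kernel)
  have r7 : ∃ g ∈ H4, g 4 = 7 := step s5_mem4 r6 (by decide +kernel)
  intro s hs
  have hs1 : 4 ≤ (s : ℕ) ∧ (s : ℕ) ≤ 7 := by
    rw [Finset.mem_Icc] at hs
    exact ⟨Fin.le_def.mp hs.1, Fin.le_def.mp hs.2⟩
  obtain ⟨n, hn⟩ := s
  simp only at hs1
  obtain ⟨h1, h2⟩ := hs1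
  interval_cases n
  · exact r4
  · exact r5
  · exact r6
  · exact r7
theorem orb5 : ∀ s ∈ (Finset.Icc (5 : Fin 50) 7), ∃ g ∈ H5, g 5 = s := by
  have r5 := start H5 5
  have r6 : ∃ g ∈ H5, g 5 = 6 := step s5_mem5 r5 (by decide +kernel)
  have r7 : ∃ g ∈ H5, g 5 = 7 := step s5_mem5 r6 (by decide +kernel)
  intro s hs
  have hs1 : 5 ≤ (s : ℕ) ∧ (s : ℕ) ≤ 7 := by
    rw [Finset.mem_Icc] at hs
    exact ⟨Fin.le_def.mp hs.1, Fin.le_def.mp hs.2⟩
  obtain ⟨n, hn⟩ := s
  simp only at hs1
  obtain ⟨h1, h2⟩ := hs1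
  interval_cases n
  · exact r5
  · exact r6
  · exact r7

theorem card_K50_ge : 126000 ≤ Nat.card K50 := by
  have h0 := card_ge K50 0 Finset.univ (fun s _ => trans50 s)
  have h1 := card_ge H1 1 (Finset.Icc (1 : Fin 50) 7) orb1
  have h2 := card_ge H2 2 (Finset.Icc (2 : Fin 50) 7) orb2
  have h3 := card_ge H3 3 (Finset.Icc (3 : Fin 50) 7) orb3
  have h4 := card_ge H4 4 (Finset.Icc (4 : Fin 50) 7) orb4
  have h5 := card_ge H5 5 (Finset.Icc (5 : Fin 50) 7) orb5
  have c0 : (Finset.univ : Finset (Fin 50)).card = 50 := by simp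
  have c1 : (Finset.Icc (1 : Fin 50) 7).card = 7 := by decide
  have c2 : (Finset.Icc (2 : Fin 50) 7).card = 6 := by decide
  have c3 : (Finset.Icc (3 : Fin 50) 7).card = 5 := by decide
  have c4 : (Finset.Icc (4 : Fin 50) 7).card = 4 := by decide
  have c5 : (Finset.Icc (5 : Fin 50) 7).card = 3 := by decide
  rw [c0] at h0
  rw [c1] at h1
  rw [c2] at h2
  rw [c3] at h3
  rw [c4] at h4
  rw [c5] at h5
  change 50 * Nat.card H1 ≤ _ at h0
  change 7 * Nat.card H2 ≤ _ at h1
  change 6 * Nat.card H3 ≤ _ at h2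
  change 5 * Nat.card H4 ≤ _ at h3
  change 4 * Nat.card H5 ≤ _ at h4
  have h6 : 0 < Nat.card (H5 ⊓ MulAction.stabilizer (Equiv.Perm (Fin 50)) (5 : Fin 50) : Subgroup _) :=
    Nat.card_pos
  omega

theorem fix_only (j : Fin 50) : s1 j = j → s2 j = j → s3 j = j → s4 j = j → s5 j = j → j = 0 := by
  revert j; decide +kernel

/-- the centraliser of K50 in the symmetric group is trivial -/
theorem centralizer_trivial (π : Equiv.Perm (Fin 50)) (h : ∀ g ∈ K50, π * g = g * π) : π = 1 := by
  have h0 : π 0 = 0 := by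
    have key : ∀ σ ∈ K50, σ 0 = 0 → σ (π 0) = π 0 := by
      intro σ hσ hs
      have := congrArg (fun g : Equiv.Perm (Fin 50) => g 0) (h σ hσ)
      simp only [Equiv.Perm.mul_apply, hs] at this
      exact this.symm
    apply fix_only
    · exact key s1 s1_mem (by decide +kernel)
    · exact key s2 s2_mem (by decide +kernel)
    · exact key s3 s3_mem (by decide +kernel)
    · exact key s4 s4_mem (by decide +kernel)
    · exact key s5 s5_mem (by decide +kernel)
  ext s
  obtain ⟨g, hg, hgs⟩ := trans50 s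
  have := congrArg (fun g : Equiv.Perm (Fin 50) => g 0) (h g hg)
  simp only [Equiv.Perm.mul_apply, h0, hgs] at this
  rw [this]; rfl

end Cfsg.Agent.SporStruct.U35K50
end

-- part: SporStruct/U35Iso
section
set_option autoImplicit false

namespace Cfsg.Agent.SporStruct.U35Iso

open Cfsg Matrix
open Cfsg.Agent.SporStruct.U35Field Cfsg.Agent.SporStruct.U35Table Cfsg.Agent.SporStruct.U35SU
open Cfsg.Agent.SporStruct.U35Col Cfsg.Agent.SporStruct.U35K50

/-- determinant of codes -/
def detN (m : Mat3) : ℕ :=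
  addN (addN (mulN m.a (addN (mulN m.e m.i) (mulN 4 (mulN m.f m.h))))
    (mulN 4 (mulN m.b (addN (mulN m.d m.i) (mulN 4 (mulN m.f m.g))))))
    (mulN m.c (addN (mulN m.d m.h) (mulN 4 (mulN m.e m.g))))

/-- hermitian product of codes -/
def hN (x y z x' y' z' : ℕ) : ℕ := rowN x y z (conjN x') (conjN y') (conjN z')

/-- check that a matrix of codes is special unitary -/
def chkSU (m : Mat3) : Bool :=
  and (Nat.beq (detN m) 1) (and
  (and (Nat.beq (hN m.a m.d m.g m.a m.d m.g) 1) (and (Nat.beq (hN m.a m.d m.g m.b m.e m.h) 0)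
    (Nat.beq (hN m.a m.d m.g m.c m.f m.i) 0))) (and
  (and (Nat.beq (hN m.b m.e m.h m.a m.d m.g) 0) (and (Nat.beq (hN m.b m.e m.h m.b m.e m.h) 1)
    (Nat.beq (hN m.b m.e m.h m.c m.f m.i) 0)))
  (and (Nat.beq (hN m.c m.f m.i m.a m.d m.g) 0) (and (Nat.beq (hN m.c m.f m.i m.b m.e m.h) 0)
    (Nat.beq (hN m.c m.f m.i m.c m.f m.i) 1)))))

/-- cube root of unity -/
def mω : Mat3 := ⟨12, 0, 0, 0, 12, 0, 0, 0, 12⟩

theorem su0 : chkSU m0 = true := by decide
theorem su1 : chkSU m1 = true := by decide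
theorem su2 : chkSU m2 = true := by decide
theorem su3 : chkSU m3 = true := by decide
theorem su4 : chkSU m4 = true := by decide
theorem su5 : chkSU m5 = true := by decide
theorem suω : chkSU mω = true := by decide

variable {F : Type} [Field F]

section
variable (h5 : (5 : F) = 0) (θ : F) (hθ : θ ^ 2 = 2)

include h5 hθ

theorem e_four_mul (x : ℕ) : e θ (mulN 4 x) = - e θ x := by
  rw [e_mul h5 θ hθ, e_of_lt5 θ (by norm_num : 4 < 5)]
  push_cast
  linear_combination (e θ x) * h5

theorem e_rowN (x y z a b c : ℕ) :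
    e θ (rowN x y z a b c) = e θ x * e θ a + e θ y * e θ b + e θ z * e θ c := by
  unfold rowN
  rw [e_add h5, e_add h5, e_mul h5 θ hθ, e_mul h5 θ hθ, e_mul h5 θ hθ]

theorem e_hN {x y z x' y' z' r : ℕ} (h : Nat.beq (hN x y z x' y' z') r = true) :
    e θ x * e θ x' ^ 5 + e θ y * e θ y' ^ 5 + e θ z * e θ z' ^ 5 = e θ r := by
  have h1 := Nat.eq_of_beq_eq_true h
  rw [← h1]
  unfold hN
  rw [e_rowN h5 θ hθ, e_conj h5 θ hθ, e_conj h5 θ hθ, e_conj h5 θ hθ]

theorem matF_det {m : Mat3} (h : chkSU m = true) : (matF θ m).det = 1 := by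
  unfold chkSU at h
  rw [Bool.and_eq_true] at h
  have h1 := Nat.eq_of_beq_eq_true h.1
  have h2 : e θ (detN m) = 1 := by rw [h1, e_one]
  rw [← h2]
  unfold detN matF
  rw [Matrix.det_fin_three]
  simp only [e_add h5, e_mul h5 θ hθ, Matrix.of_apply, Matrix.cons_val',
    Matrix.cons_val_zero, Matrix.cons_val_one, Matrix.cons_val]
  rw [e_of_lt5 θ (by norm_num : 4 < 5)]
  push_cast
  linear_combination (-(e θ m.a * e θ m.f * e θ m.h) - e θ m.e * e θ m.g * e θ m.c -
    e θ m.i * e θ m.b * e θ m.d - 3 * (e θ m.f * e θ m.b * e θ m.g)) * h5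

theorem matF_herm {m : Mat3} (h : chkSU m = true) (u v : Fin 3 → F) :
    hermForm 3 F 5 (matF θ m *ᵥ u) (matF θ m *ᵥ v) = hermForm 3 F 5 u v := by
  unfold chkSU at h
  simp only [Bool.and_eq_true] at h
  obtain ⟨-, ⟨h11, h12, h13⟩, ⟨h21, h22, h23⟩, ⟨h31, h32, h33⟩⟩ := h
  have k11 := e_hN h5 θ hθ h11
  have k12 := e_hN h5 θ hθ h12
  have k13 := e_hN h5 θ hθ h13
  have k21 := e_hN h5 θ hθ h21
  have k22 := e_hN h5 θ hθ h22
  have k23 := e_hN h5 θ hθ h23
  have k31 := e_hN h5 θ hθ h31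
  have k32 := e_hN h5 θ hθ h32
  have k33 := e_hN h5 θ hθ h33
  rw [e_zero] at k12 k13 k21 k23 k31 k32
  rw [e_one] at k11 k22 k33
  unfold hermForm matF
  simp only [Matrix.mulVec, dotProduct, Fin.sum_univ_three, Matrix.of_apply, Matrix.cons_val',
    Matrix.cons_val_zero, Matrix.cons_val_one, Matrix.cons_val]
  simp only [add_pow_five h5, mul_pow]
  linear_combination (u 0 * v 0 ^ 5) * k11 + (u 0 * v 1 ^ 5) * k12 + (u 0 * v 2 ^ 5) * k13 +
    (u 1 * v 0 ^ 5) * k21 + (u 1 * v 1 ^ 5) * k22 + (u 1 * v 2 ^ 5) * k23 +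
    (u 2 * v 0 ^ 5) * k31 + (u 2 * v 1 ^ 5) * k32 + (u 2 * v 2 ^ 5) * k33

/-- the element of SU(3,5) with a given table -/
def suOf (m : Mat3) (h : chkSU m = true) : SU 3 F 5 :=
  ⟨⟨matF θ m, matF_det h5 θ hθ h⟩, fun u v => matF_herm h5 θ hθ h u v⟩

omit h5 hθ in
theorem mat_suOf (h5 : (5 : F) = 0) (hθ : θ ^ 2 = 2) (m : Mat3) (h : chkSU m = true) :
    mat (suOf h5 θ hθ m h) = matF θ m := rfl

end

/-- the group of compatible pairs -/
def Dgrp (E' : Fin 25 ≃ F) : Subgroup (SU 3 F 5 × Equiv.Perm (Fin 50)) where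
  carrier := {p | ∀ (u : Fin 3 → F) (j : Fin 50),
    bt (Mk E' (mat p.1 *ᵥ u)) (p.2 j : ℕ) = bt (Mk E' u) (j : ℕ)}
  mul_mem' {p q} hp hq := by
    intro u j
    change bt (Mk E' (mat (p.1 * q.1) *ᵥ u)) ((p.2 * q.2) j : ℕ) = _
    rw [mat_mul_mulVec, Equiv.Perm.mul_apply, hp, hq]
  one_mem' := by
    intro u j
    change bt (Mk E' (mat (1 : SU 3 F 5) *ᵥ u)) (j : ℕ) = _
    rw [mat_one, Matrix.one_mulVec]
  inv_mem' {p} hp := by
    intro u j
    change bt (Mk E' (mat (p.1⁻¹) *ᵥ u)) ((p.2⁻¹) j : ℕ) = _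
    have h := hp (mat (p.1⁻¹) *ᵥ u) (p.2⁻¹ j)
    have hj : p.2 (p.2⁻¹ j) = j := p.2.apply_symm_apply j
    rw [mat_mulVec_inv, hj] at h
    exact h.symm

theorem mem_Dgrp (E' : Fin 25 ≃ F) (g : SU 3 F 5) (π : Equiv.Perm (Fin 50)) :
    (g, π) ∈ Dgrp E' ↔ ∀ (u : Fin 3 → F) (j : Fin 50),
      bt (Mk E' (mat g *ᵥ u)) (π j : ℕ) = bt (Mk E' u) (j : ℕ) := Iff.rfl

section
variable [Fintype F] (hF : Fintype.card F = 25) (h5 : (5 : F) = 0) (θ : F) (hθ : θ ^ 2 = 2)

theorem gen_mem (m : Mat3) (P Q : ℕ) (hP : chkPerm P Q = true) (hG : chkGen m P = true)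
    (hs : chkSU m = true) : (suOf h5 θ hθ m hs, mkPerm P Q hP) ∈ Dgrp (E hF h5 θ hθ) := by
  rw [mem_Dgrp]
  intro u j
  rw [mkPerm_apply]
  exact chkGen_spec hF h5 θ hθ hG u j j.2

/-- projection to the permutations -/
def pr2 (E' : Fin 25 ≃ F) : Dgrp E' →* Equiv.Perm (Fin 50) :=
  (MonoidHom.snd (SU 3 F 5) (Equiv.Perm (Fin 50))).comp (Dgrp E').subtype

/-- projection to the matrices -/
def pr1 (E' : Fin 25 ≃ F) : Dgrp E' →* SU 3 F 5 :=
  (MonoidHom.fst (SU 3 F 5) (Equiv.Perm (Fin 50))).comp (Dgrp E').subtype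

theorem K50_le_range : K50 ≤ (pr2 (E hF h5 θ hθ)).range := by
  unfold K50
  rw [Subgroup.closure_le]
  intro g hg
  simp only [Set.mem_insert_iff, Set.mem_singleton_iff] at hg
  rcases hg with rfl | rfl | rfl | rfl | rfl | rfl
  · exact ⟨⟨_, gen_mem hF h5 θ hθ m0 P0 Q0 cP0 cG0 su0⟩, rfl⟩
  · exact ⟨⟨_, gen_mem hF h5 θ hθ m1 P1 Q1 cP1 cG1 su1⟩, rfl⟩
  · exact ⟨⟨_, gen_mem hF h5 θ hθ m2 P2 Q2 cP2 cG2 su2⟩, rfl⟩
  · exact ⟨⟨_, gen_mem hF h5 θ hθ m3 P3 Q3 cP3 cG3 su3⟩, rfl⟩
  · exact ⟨⟨_, gen_mem hF h5 θ hθ m4 P4 Q4 cP4 cG4 su4⟩, rfl⟩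
  · exact ⟨⟨_, gen_mem hF h5 θ hθ m5 P5 Q5 cP5 cG5 su5⟩, rfl⟩

theorem allLt_of (p : ℕ → Bool) (n : ℕ) (h : ∀ k < n, p k = true) : allLt p n = true := by
  induction n with
  | zero => rfl
  | succ n ih =>
    change (and (p n) (allLt p n)) = true
    rw [Bool.and_eq_true]
    exact ⟨h n (Nat.lt_succ_self n), ih (fun k hk => h k (Nat.lt_succ_of_lt hk))⟩

theorem bt_cases (M j : ℕ) : bt M j = 0 ∨ bt M j = 1 := by
  unfold bt; omega

/-- an entry of the table is the mask of a vector -/
theorem entry_eq {i : ℕ} (hi : i < 625) :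
    entry i = Mk (E hF h5 θ hθ) (vec θ 1 (i / 25) (i % 25)) := by
  rw [Mk_vec hF h5 θ hθ (by norm_num) (by omega) (by omega)]
  unfold colN
  have h1 : Nat.beq 1 0 = false := rfl
  rw [h1]
  change entry i = entry (25 * mulN (i / 25) (invN 1) + mulN (i % 25) (invN 1))
  have key : ∀ x < 25, mulN x (invN 1) = x := by decide
  rw [key _ (by omega), key _ (by omega), Nat.div_add_mod]

theorem pr1_injective : Function.Injective (pr1 (E hF h5 θ hθ)) := by
  rw [injective_iff_map_eq_one]
  rintro ⟨⟨g, π⟩, hg⟩ h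
  change g = 1 at h
  subst h
  rw [mem_Dgrp] at hg
  have hπ : π = 1 := by
    ext j
    by_contra hne
    have hs := allLt_spec _ _ (allLt_spec _ _ sepChk_true (j : ℕ) j.2) (π j : ℕ) (π j).2
    rw [Bool.or_eq_true, Bool.not_eq_true'] at hs
    rcases hs with hs | hs
    · exact hne (Nat.eq_of_beq_eq_true hs).symm
    · have : allLt (fun i => or (Nat.beq (bt (entry i) (j : ℕ)) 0)
          (Nat.beq (bt (entry i) (π j : ℕ)) 1)) 625 = true := by
        apply allLt_of
        intro i hi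
        rw [Bool.or_eq_true]
        have h1 := hg (vec θ 1 (i / 25) (i % 25)) j
        rw [mat_one, Matrix.one_mulVec, ← entry_eq hF h5 θ hθ hi] at h1
        rcases bt_cases (entry i) (j : ℕ) with h2 | h2
        · left; rw [h2]; rfl
        · right; rw [h1, h2]; rfl
      rw [this] at hs
      exact Bool.noConfusion hs
  subst hπ
  rfl

theorem entry_lt (k : ℕ) : entry k < 2 ^ 50 := by
  unfold entry
  exact Nat.mod_lt _ (by norm_num)

theorem bt_eq_testBit (M j : ℕ) : Nat.testBit M j = decide (bt M j = 1) := by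
  unfold bt
  rw [Nat.testBit_eq_decide_div_mod_eq, Nat.shiftRight_eq_div_pow]

theorem eq_of_bits {M M' : ℕ} (h : M < 2 ^ 50) (h' : M' < 2 ^ 50)
    (H : ∀ j < 50, bt M j = bt M' j) : M = M' := by
  apply Nat.eq_of_testBit_eq
  intro j
  by_cases hj : j < 50
  · rw [bt_eq_testBit, bt_eq_testBit, H j hj]
  · have hj' : 50 ≤ j := not_lt.mp hj
    rw [Nat.testBit_lt_two_pow (lt_of_lt_of_le h (Nat.pow_le_pow_right (by norm_num) hj')),
      Nat.testBit_lt_two_pow (lt_of_lt_of_le h' (Nat.pow_le_pow_right (by norm_num) hj'))]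

omit [Fintype F] in
theorem Mk_lt (E' : Fin 25 ≃ F) (u : Fin 3 → F) : Mk E' u < 2 ^ 50 := by
  unfold Mk Mk3
  split_ifs
  · norm_num
  · exact entry_lt _
  · exact entry_lt _
  · exact entry_lt _

/-- a vector with the mask number `k`, for a unique mask, is proportional to the vector with index `k` -/
theorem uniq_spec {k : ℕ} (hk : uniqChk k = true) {a b c : ℕ}
    (hidx : ∀ a' b' c' : ℕ, ((a' = 1 ∧ b' < 25 ∧ c' < 25) ∨ (a' = 0 ∧ b' = 1 ∧ c' < 25) ∨
      (a' = 0 ∧ b' = 0 ∧ c' = 1)) →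
      (a' = a ∧ b' = b ∧ c' = c) ∨ ∃ i < 651, i ≠ k ∧ colN a' b' c' = entry i)
    (u : Fin 3 → F) (hu : u ≠ 0) (hM : Mk (E hF h5 θ hθ) u = entry k) :
    ∃ l : F, u = l • vec θ a b c := by
  obtain ⟨l, a', b', c', hl, hul, hcase⟩ := exists_rep hF h5 θ hθ u hu
  have hlt : a' < 25 ∧ b' < 25 ∧ c' < 25 := by
    rcases hcase with ⟨rfl, hb, hc⟩ | ⟨rfl, rfl, hc⟩ | ⟨rfl, rfl, rfl⟩
    · exact ⟨by norm_num, hb, hc⟩
    · exact ⟨by norm_num, by norm_num, hc⟩
    · exact ⟨by norm_num, by norm_num, by norm_num⟩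
  rcases hidx a' b' c' hcase with ⟨rfl, rfl, rfl⟩ | ⟨i, hi, hik, hcol⟩
  · exact ⟨l, hul⟩
  · exfalso
    rw [hul, Mk_smul _ _ hl, Mk_vec hF h5 θ hθ hlt.1 hlt.2.1 hlt.2.2, hcol] at hM
    unfold uniqChk at hk
    rw [force_eq] at hk
    have := allLt_spec _ _ hk i hi
    rw [Bool.or_eq_true, Bool.not_eq_true'] at this
    rcases this with h | h
    · exact hik (Nat.eq_of_beq_eq_true h)
    · rw [hM] at h
      have h2 : Nat.beq (entry k) (entry k) = true := by
        rw [Nat.beq_eq]
      rw [h2] at h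
      exact Bool.noConfusion h

theorem mulN_one_inv : ∀ x < 25, mulN x (invN 1) = x := by decide

theorem colN_one {b c : ℕ} (hb : b < 25) (hc : c < 25) : colN 1 b c = entry (25 * b + c) := by
  change entry (25 * mulN b (invN 1) + mulN c (invN 1)) = _
  rw [mulN_one_inv b hb, mulN_one_inv c hc]

theorem colN_zero_one {c : ℕ} (hc : c < 25) : colN 0 1 c = entry (625 + c) := by
  change entry (625 + mulN c (invN 1)) = _
  rw [mulN_one_inv c hc]

theorem colN_zero_zero_one : colN 0 0 1 = entry 650 := rfl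

theorem idx_of {k a b c : ℕ} (hk : (a = 1 ∧ b < 25 ∧ c < 25 ∧ k = 25 * b + c) ∨
    (a = 0 ∧ b = 1 ∧ c < 25 ∧ k = 625 + c) ∨ (a = 0 ∧ b = 0 ∧ c = 1 ∧ k = 650)) :
    ∀ a' b' c' : ℕ, ((a' = 1 ∧ b' < 25 ∧ c' < 25) ∨ (a' = 0 ∧ b' = 1 ∧ c' < 25) ∨
      (a' = 0 ∧ b' = 0 ∧ c' = 1)) →
      (a' = a ∧ b' = b ∧ c' = c) ∨ ∃ i < 651, i ≠ k ∧ colN a' b' c' = entry i := by
  intro a' b' c' h
  by_cases heq : a' = a ∧ b' = b ∧ c' = c
  · exact Or.inl heq
  · right
    rcases h with ⟨rfl, hb, hc⟩ | ⟨rfl, rfl, hc⟩ | ⟨rfl, rfl, rfl⟩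
    · exact ⟨25 * b' + c', by omega, by omega, colN_one hb hc⟩
    · exact ⟨625 + c', by omega, by omega, colN_zero_one hc⟩
    · exact ⟨650, by omega, by omega, colN_zero_zero_one⟩

/-- an element acting trivially on the masks is scalar -/
theorem scalar_of_trivial (g : SU 3 F 5)
    (hg : ∀ u : Fin 3 → F, Mk (E hF h5 θ hθ) (mat g *ᵥ u) = Mk (E hF h5 θ hθ) u) :
    ∃ l : F, ∀ u : Fin 3 → F, mat g *ᵥ u = l • u := by
  have hne : ∀ u : Fin 3 → F, u ≠ 0 → mat g *ᵥ u ≠ 0 := by
    intro u hu h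
    apply hu
    have := congrArg (fun v => mat g⁻¹ *ᵥ v) h
    simp only [mat_inv_mulVec, Matrix.mulVec_zero] at this
    exact this
  have ne1 : (![1, 0, 0] : Fin 3 → F) ≠ 0 := by
    intro h; have := congrFun h 0; simp at this
  have ne2 : (![0, 1, 0] : Fin 3 → F) ≠ 0 := by
    intro h; have := congrFun h 1; simp at this
  have ne3 : (![0, 0, 1] : Fin 3 → F) ≠ 0 := by
    intro h; have := congrFun h 2; simp at this
  have ne4 : (![1, 1, 1] : Fin 3 → F) ≠ 0 := by
    intro h; have := congrFun h 0; simp at this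
  have v1 : vec θ 1 0 0 = ![1, 0, 0] := by simp [U35Col.vec, e_zero, e_one]
  have v2 : vec θ 0 1 0 = ![0, 1, 0] := by simp [U35Col.vec, e_zero, e_one]
  have v3 : vec θ 0 0 1 = ![0, 0, 1] := by simp [U35Col.vec, e_zero, e_one]
  have v4 : vec θ 1 1 1 = ![1, 1, 1] := by simp [U35Col.vec, e_one]
  have M1 : Mk (E hF h5 θ hθ) (vec θ 1 0 0) = entry 0 := by
    rw [Mk_vec hF h5 θ hθ (by norm_num) (by norm_num) (by norm_num), colN_one (by norm_num) (by norm_num)]
  have M2 : Mk (E hF h5 θ hθ) (vec θ 0 1 0) = entry 625 := by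
    rw [Mk_vec hF h5 θ hθ (by norm_num) (by norm_num) (by norm_num), colN_zero_one (by norm_num)]
  have M3 : Mk (E hF h5 θ hθ) (vec θ 0 0 1) = entry 650 := by
    rw [Mk_vec hF h5 θ hθ (by norm_num) (by norm_num) (by norm_num)]; rfl
  have M4 : Mk (E hF h5 θ hθ) (vec θ 1 1 1) = entry 26 := by
    rw [Mk_vec hF h5 θ hθ (by norm_num) (by norm_num) (by norm_num), colN_one (by norm_num) (by norm_num)]
  obtain ⟨l1, h1⟩ := uniq_spec hF h5 θ hθ uniq1 (a := 1) (b := 0) (c := 0)
    (idx_of (by left; norm_num)) (mat g *ᵥ ![1, 0, 0]) (hne _ ne1) (by rw [hg, ← v1, M1])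
  obtain ⟨l2, h2⟩ := uniq_spec hF h5 θ hθ uniq2 (a := 0) (b := 1) (c := 0)
    (idx_of (by right; left; norm_num)) (mat g *ᵥ ![0, 1, 0]) (hne _ ne2) (by rw [hg, ← v2, M2])
  obtain ⟨l3, h3⟩ := uniq_spec hF h5 θ hθ uniq3 (a := 0) (b := 0) (c := 1)
    (idx_of (by right; right; norm_num)) (mat g *ᵥ ![0, 0, 1]) (hne _ ne3) (by rw [hg, ← v3, M3])
  obtain ⟨l4, h4⟩ := uniq_spec hF h5 θ hθ uniq4 (a := 1) (b := 1) (c := 1)
    (idx_of (by left; norm_num)) (mat g *ᵥ ![1, 1, 1]) (hne _ ne4) (by rw [hg, ← v4, M4])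
  rw [v1] at h1
  rw [v2] at h2
  rw [v3] at h3
  rw [v4] at h4
  have hsum : (![1, 1, 1] : Fin 3 → F) = ![1, 0, 0] + ![0, 1, 0] + ![0, 0, 1] := by
    funext i; fin_cases i <;> simp
  rw [hsum, Matrix.mulVec_add, Matrix.mulVec_add, h1, h2, h3] at h4
  have e1 : l1 = l4 := by simpa using congrFun h4 0
  have e2 : l2 = l4 := by simpa using congrFun h4 1
  have e3 : l3 = l4 := by simpa using congrFun h4 2
  refine ⟨l4, fun u => ?_⟩
  have hu : u = u 0 • ![1, 0, 0] + u 1 • ![0, 1, 0] + u 2 • ![0, 0, 1] := by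
    funext i; fin_cases i <;> simp
  conv_lhs => rw [hu]
  conv_rhs => rw [hu]
  rw [Matrix.mulVec_add, Matrix.mulVec_add, Matrix.mulVec_smul, Matrix.mulVec_smul,
    Matrix.mulVec_smul, h1, h2, h3, e1, e2, e3, smul_add, smul_add]
  rw [smul_comm (u 0), smul_comm (u 1), smul_comm (u 2)]

theorem Mk_eq_of_mem_ker {g : SU 3 F 5} (hg : (g, (1 : Equiv.Perm (Fin 50))) ∈ Dgrp (E hF h5 θ hθ))
    (u : Fin 3 → F) : Mk (E hF h5 θ hθ) (mat g *ᵥ u) = Mk (E hF h5 θ hθ) u := by
  apply eq_of_bits (Mk_lt _ _) (Mk_lt _ _)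
  intro j hj
  exact hg u ⟨j, hj⟩

theorem mem_of_scalar {g : SU 3 F 5} {l : F} (h : ∀ u : Fin 3 → F, mat g *ᵥ u = l • u) :
    (g, (1 : Equiv.Perm (Fin 50))) ∈ Dgrp (E hF h5 θ hθ) := by
  rw [mem_Dgrp]
  intro u j
  rw [h u]
  have hl : l ≠ 0 := by
    rintro rfl
    have h1 := h (mat g⁻¹ *ᵥ ![1, 0, 0])
    rw [mat_mulVec_inv, zero_smul] at h1
    have h2 := congrFun h1 0
    simp at h2
  rw [Mk_smul _ _ hl]; rfl

omit [Fintype F] in
/-- the scalar matrix of a cube root of unity -/
theorem matω (u : Fin 3 → F) : matF θ mω *ᵥ u = (e θ 12) • u := by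
  funext i
  fin_cases i <;> simp [matF, mω, e_zero, Matrix.mulVec, dotProduct, Fin.sum_univ_three]

/-- the three elements of the kernel -/
theorem card_ker_ge : 3 ≤ Nat.card (pr2 (E hF h5 θ hθ)).ker := by
  classical
  let z : SU 3 F 5 := suOf h5 θ hθ mω suω
  have hz : ∀ u : Fin 3 → F, mat z *ᵥ u = (e θ 12) • u := fun u => matω θ u
  have hz2 : ∀ u : Fin 3 → F, mat (z * z) *ᵥ u = (e θ 12 * e θ 12) • u := by
    intro u
    rw [mat_mul_mulVec, hz, hz, smul_smul]
  have h12 : e θ 12 ≠ (1 : F) := by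
    intro h
    have := e_inj h5 θ hθ (x := 12) (y := 1) (by norm_num) (by norm_num) (by rw [h, e_one])
    omega
  have h12' : e θ 12 * e θ 12 ≠ (1 : F) := by
    intro h
    rw [← e_mul h5 θ hθ] at h
    have h3 : mulN 12 12 = 17 := by decide
    rw [h3] at h
    have := e_inj h5 θ hθ (x := 17) (y := 1) (by norm_num) (by norm_num) (by rw [h, e_one])
    omega
  have hz1 : z ≠ 1 := by
    intro h
    apply h12
    have := hz ![1, 0, 0]
    rw [h, mat_one, Matrix.one_mulVec] at this
    simpa using (congrFun this 0).symm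
  have hzz : z * z ≠ 1 := by
    intro h
    apply h12'
    have := hz2 ![1, 0, 0]
    rw [h, mat_one, Matrix.one_mulVec] at this
    simpa using (congrFun this 0).symm
  have m1 : (z, (1 : Equiv.Perm (Fin 50))) ∈ Dgrp (E hF h5 θ hθ) := mem_of_scalar hF h5 θ hθ hz
  have m2 : (z * z, (1 : Equiv.Perm (Fin 50))) ∈ Dgrp (E hF h5 θ hθ) := mem_of_scalar hF h5 θ hθ hz2
  let k1 : (pr2 (E hF h5 θ hθ)).ker := ⟨⟨_, m1⟩, rfl⟩
  let k2 : (pr2 (E hF h5 θ hθ)).ker := ⟨⟨_, m2⟩, rfl⟩
  let f : Fin 3 → (pr2 (E hF h5 θ hθ)).ker := ![1, k1, k2]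
  have g1 : k1 ≠ 1 := by
    intro h
    have : z = 1 := congrArg (fun t : (pr2 (E hF h5 θ hθ)).ker => t.1.1.1) h
    exact hz1 this
  have g2 : k2 ≠ 1 := by
    intro h
    have : z * z = 1 := congrArg (fun t : (pr2 (E hF h5 θ hθ)).ker => t.1.1.1) h
    exact hzz this
  have g3 : k1 ≠ k2 := by
    intro h
    have : z = z * z := congrArg (fun t : (pr2 (E hF h5 θ hθ)).ker => t.1.1.1) h
    exact hz1 (left_eq_mul.mp this)
  have hf : Function.Injective f := by
    intro i j hij
    fin_cases i <;> fin_cases j <;> simp [f] at hij ⊢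
    · exact g1 hij.symm
    · exact g2 hij.symm
    · exact g1 hij
    · exact g3 hij
    · exact g2 hij
    · exact g3 hij.symm
  have := Nat.card_le_card_of_injective f hf
  simpa using this

theorem card_facts : Nat.card (SU 3 F 5) = 378000 ∧ Function.Bijective (pr1 (E hF h5 θ hθ)) ∧
    (pr2 (E hF h5 θ hθ)).range = K50 ∧ Nat.card K50 = 126000 := by
  have a1 : Nat.card (Dgrp (E hF h5 θ hθ)) ≤ Nat.card (SU 3 F 5) :=
    Nat.card_le_card_of_injective _ (pr1_injective hF h5 θ hθ)
  have a2 : Nat.card (SU 3 F 5) ≤ 378000 := card_SU_le' hF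
  have a3 : Nat.card (pr2 (E hF h5 θ hθ)).ker * Nat.card (pr2 (E hF h5 θ hθ)).range =
      Nat.card (Dgrp (E hF h5 θ hθ)) := by
    rw [← Subgroup.index_ker, Subgroup.card_mul_index]
  have a4 := card_ker_ge hF h5 θ hθ
  have a5 : Nat.card K50 ≤ Nat.card (pr2 (E hF h5 θ hθ)).range :=
    Nat.card_le_card_of_injective _ (Subgroup.inclusion_injective (K50_le_range hF h5 θ hθ))
  have a6 := card_K50_ge
  have a7 : 3 * 126000 ≤ Nat.card (Dgrp (E hF h5 θ hθ)) := by
    rw [← a3]; exact Nat.mul_le_mul a4 (le_trans a6 a5)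
  have b1 : Nat.card (Dgrp (E hF h5 θ hθ)) = 378000 := by omega
  have b2 : Nat.card (SU 3 F 5) = 378000 := by omega
  have b3 : Nat.card (pr2 (E hF h5 θ hθ)).range ≤ 126000 := by
    have : 3 * Nat.card (pr2 (E hF h5 θ hθ)).range ≤ 378000 := by
      rw [← b1, ← a3]; exact Nat.mul_le_mul_right _ a4
    omega
  refine ⟨b2, ?_, ?_, by omega⟩
  · exact (Nat.bijective_iff_injective_and_card _).mpr ⟨pr1_injective hF h5 θ hθ, by rw [b1, b2]⟩
  · exact (Subgroup.eq_of_le_of_card_ge (K50_le_range hF h5 θ hθ) (by omega)).symm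

/-- the isomorphism between SU(3,5) and the group of pairs -/
noncomputable def equivD : Dgrp (E hF h5 θ hθ) ≃* SU 3 F 5 :=
  MulEquiv.ofBijective (pr1 (E hF h5 θ hθ)) (card_facts hF h5 θ hθ).2.1

/-- the permutation representation of SU(3,5) of degree 50 -/
noncomputable def rep : SU 3 F 5 →* Equiv.Perm (Fin 50) :=
  (pr2 (E hF h5 θ hθ)).comp (equivD hF h5 θ hθ).symm.toMonoidHom

theorem rep_mem (g : SU 3 F 5) : (g, rep hF h5 θ hθ g) ∈ Dgrp (E hF h5 θ hθ) := by
  have h : (g, rep hF h5 θ hθ g) = ((equivD hF h5 θ hθ).symm g).1 := by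
    apply Prod.ext
    · have := (equivD hF h5 θ hθ).apply_symm_apply g
      exact this.symm
    · rfl
  rw [h]
  exact ((equivD hF h5 θ hθ).symm g).2

theorem range_rep : (rep hF h5 θ hθ).range = K50 := by
  rw [← (card_facts hF h5 θ hθ).2.2.1]
  ext π
  constructor
  · rintro ⟨g, rfl⟩
    exact ⟨(equivD hF h5 θ hθ).symm g, rfl⟩
  · rintro ⟨d, rfl⟩
    exact ⟨equivD hF h5 θ hθ d, by
      change pr2 _ ((equivD hF h5 θ hθ).symm (equivD hF h5 θ hθ d)) = _
      rw [MulEquiv.symm_apply_apply]⟩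

theorem ker_rep : (rep hF h5 θ hθ).ker = Subgroup.center (SU 3 F 5) := by
  apply le_antisymm
  · intro g hg
    rw [MonoidHom.mem_ker] at hg
    have h1 := rep_mem hF h5 θ hθ g
    rw [hg] at h1
    obtain ⟨l, hl⟩ := scalar_of_trivial hF h5 θ hθ g (Mk_eq_of_mem_ker hF h5 θ hθ h1)
    rw [Subgroup.mem_center_iff]
    intro k
    apply mat_inj
    rw [mat_mul, mat_mul]
    have hgl : mat g = l • (1 : Matrix (Fin 3) (Fin 3) F) := by
      apply Matrix.ext_of_mulVec_single
      intro i
      rw [hl, Matrix.smul_mulVec, Matrix.one_mulVec]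
    rw [hgl, Matrix.mul_smul, Matrix.smul_mul, Matrix.mul_one, Matrix.one_mul]
  · intro g hg
    rw [MonoidHom.mem_ker]
    apply centralizer_trivial
    intro k hk
    rw [← range_rep hF h5 θ hθ] at hk
    obtain ⟨k', rfl⟩ := hk
    rw [← map_mul, ← map_mul, (Subgroup.mem_center_iff.mp hg k')]

end

/-- PSU(3,5) is isomorphic to the permutation group K50. -/
theorem psu35_iso (F : Type) [Field F] [Fintype F] (hF : Fintype.card F = 25) :
    Nonempty (Cfsg.PSU 3 F 5 ≃* K50) := by
  obtain ⟨h5, θ, hθ⟩ := exists_theta hF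
  have h1 : Cfsg.PSU 3 F 5 ≃* (SU 3 F 5 ⧸ (rep hF h5 θ hθ).ker) :=
    QuotientGroup.quotientMulEquivOfEq (ker_rep hF h5 θ hθ).symm
  have h2 : (SU 3 F 5 ⧸ (rep hF h5 θ hθ).ker) ≃* (rep hF h5 θ hθ).range :=
    QuotientGroup.quotientKerEquivRange _
  have h3 : (rep hF h5 θ hθ).range ≃* K50 := MulEquiv.subgroupCongr (range_rep hF h5 θ hθ)
  exact ⟨(h1.trans h2).trans h3⟩

end Cfsg.Agent.SporStruct.U35Iso
end
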