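import Mathlib
set_option linter.all false

/-! Even integral lattices without roots: congruence modulo 2 of short vectors.
Used for S1587 and S1588. -/

set_option autoImplicit false

namespace Cfsg.Agent.SporStruct.LatMod2

open Matrix

variable {n : ℕ}

/-- The norm of `u + v`. -/
theorem norm_add (B : Matrix (Fin n) (Fin n) ℤ) (hsymm : B.IsSymm) (u v : Fin n → ℤ) :
    (u + v) ⬝ᵥ (B *ᵥ (u + v)) = u ⬝ᵥ (B *ᵥ u) + v ⬝ᵥ (B *ᵥ v) + 2 * (u ⬝ᵥ (B *ᵥ v)) := by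
  have h : v ⬝ᵥ (B *ᵥ u) = u ⬝ᵥ (B *ᵥ v) := by
    rw [dotProduct_mulVec, ← mulVec_transpose, hsymm.eq, dotProduct_comm]
  rw [mulVec_add, dotProduct_add, add_dotProduct, add_dotProduct, h]
  ring

theorem norm_sub (B : Matrix (Fin n) (Fin n) ℤ) (hsymm : B.IsSymm) (u v : Fin n → ℤ) :
    (v - u) ⬝ᵥ (B *ᵥ (v - u)) = u ⬝ᵥ (B *ᵥ u) + v ⬝ᵥ (B *ᵥ v) - 2 * (u ⬝ᵥ (B *ᵥ v)) := by
  have h : v ⬝ᵥ (B *ᵥ u) = u ⬝ᵥ (B *ᵥ v) := by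
    rw [dotProduct_mulVec, ← mulVec_transpose, hsymm.eq, dotProduct_comm]
  rw [mulVec_sub, dotProduct_sub, sub_dotProduct, sub_dotProduct, h]
  ring

theorem inner_add_sub (B : Matrix (Fin n) (Fin n) ℤ) (hsymm : B.IsSymm) (u v : Fin n → ℤ) :
    (u + v) ⬝ᵥ (B *ᵥ (v - u)) = v ⬝ᵥ (B *ᵥ v) - u ⬝ᵥ (B *ᵥ u) := by
  have h : v ⬝ᵥ (B *ᵥ u) = u ⬝ᵥ (B *ᵥ v) := by
    rw [dotProduct_mulVec, ← mulVec_transpose, hsymm.eq, dotProduct_comm]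
  rw [mulVec_sub, dotProduct_sub, add_dotProduct, add_dotProduct, h]
  ring

/-- Nonzero vectors have norm at least 4. -/
theorem four_le (B : Matrix (Fin n) (Fin n) ℤ)
    (hpos : ∀ x : Fin n → ℤ, x ≠ 0 → 0 < x ⬝ᵥ (B *ᵥ x))
    (heven : ∀ x : Fin n → ℤ, (2 : ℤ) ∣ x ⬝ᵥ (B *ᵥ x))
    (h2 : ∀ x : Fin n → ℤ, x ⬝ᵥ (B *ᵥ x) ≠ 2) (u : Fin n → ℤ) (hu : u ≠ 0) :
    4 ≤ u ⬝ᵥ (B *ᵥ u) := by
  have h1 := hpos u hu
  have h3 := heven u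
  have h4 := h2 u
  omega

/-- Two vectors of norm at most 8 congruent modulo 2 are equal, opposite, or orthogonal of
norm 8. -/
theorem congr_cases (B : Matrix (Fin n) (Fin n) ℤ) (hsymm : B.IsSymm)
    (hpos : ∀ x : Fin n → ℤ, x ≠ 0 → 0 < x ⬝ᵥ (B *ᵥ x))
    (heven : ∀ x : Fin n → ℤ, (2 : ℤ) ∣ x ⬝ᵥ (B *ᵥ x))
    (h2 : ∀ x : Fin n → ℤ, x ⬝ᵥ (B *ᵥ x) ≠ 2) (x y : Fin n → ℤ)
    (hx : x ⬝ᵥ (B *ᵥ x) ≤ 8) (hy : y ⬝ᵥ (B *ᵥ y) ≤ 8)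
    (hc : ∀ i, (2 : ℤ) ∣ (x - y) i) :
    y = x ∨ y = -x ∨ (x ⬝ᵥ (B *ᵥ x) = 8 ∧ y ⬝ᵥ (B *ᵥ y) = 8 ∧ x ⬝ᵥ (B *ᵥ y) = 0) := by
  choose u hu using hc
  obtain ⟨v, hv⟩ : ∃ v, v = x - u := ⟨_, rfl⟩
  have hxu : x = u + v := by rw [hv]; abel
  have hyu : y = v - u := by
    funext i
    have := hu i
    simp only [Pi.sub_apply] at this
    rw [hv]
    simp only [Pi.sub_apply]
    linarith
  by_cases hu0 : u = 0
  · left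
    rw [hxu, hyu, hu0]; simp
  by_cases hv0 : v = 0
  · right; left
    rw [hxu, hyu, hv0]; simp
  right; right
  have h4u := four_le B hpos heven h2 u hu0
  have h4v := four_le B hpos heven h2 v hv0
  rw [hxu, norm_add B hsymm] at hx
  rw [hyu, norm_sub B hsymm] at hy
  rw [hxu, hyu, inner_add_sub B hsymm, norm_add B hsymm, norm_sub B hsymm]
  refine ⟨?_, ?_, ?_⟩ <;> linarith

end Cfsg.Agent.SporStruct.LatMod2
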